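import Mathlib
import Cfsg.Agent.Lib.Helper3.OliverC7
import Cfsg.Agent.Lib.Helper8.AutQuot

/-!
# S5289 (rank two `p`-groups, `p ≥ 5`, are resistant): data structures of the R2 farm (helper27)

`CD p n S x y z` : `S` is Blackburn's group `C(p,n)` (generators and relations, order `p^n`).
`GD p n s S x y z` : `S` is Blackburn's group `G(p,n;s)` (generators and relations, order `p^n`, `n ≥ 4`).
`AA y z` : the abelian subgroup `⟨y, z⟩`;  `ww p n z = z ^ p ^ (n-3)`.
-/

set_option autoImplicit false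

namespace Cfsg.Agent.Helper27.R2

variable {Ω : Type*} [Group Ω]

/-- the data of Blackburn's group `C(p,n)` on a subgroup `S` of `Ω` -/
structure CD (p n : ℕ) (S : Subgroup Ω) (x y z : Ω) : Prop where
  hn : 3 ≤ n
  card : Nat.card S = p ^ n
  gen : Subgroup.closure {x, y, z} = S
  xp : x ^ p = 1
  yp : y ^ p = 1
  zp : z ^ p ^ (n - 2) = 1
  xz : x * z = z * x
  yz : y * z = z * y
  xy : x⁻¹ * y * x = y * z ^ p ^ (n - 3)

/-- the data of Blackburn's group `G(p,n;s)` on a subgroup `S` of `Ω` -/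
structure GD (p n s : ℕ) (S : Subgroup Ω) (x y z : Ω) : Prop where
  hp5 : 5 ≤ p
  hn : 4 ≤ n
  hs : ¬ p ∣ s
  card : Nat.card S = p ^ n
  gen : Subgroup.closure {x, y, z} = S
  xp : x ^ p = 1
  yp : y ^ p = 1
  zp : z ^ p ^ (n - 2) = 1
  yz : y * z = z * y
  xy : x⁻¹ * y * x = y * z ^ (s * p ^ (n - 3))
  xz : x⁻¹ * z * x = y * z

/-- the subgroup `⟨y, z⟩` -/
def AA (y z : Ω) : Subgroup Ω := Subgroup.closure {y, z}

/-- the element `w = z ^ p ^ (n - 3)` -/
def ww (p n : ℕ) (z : Ω) : Ω := z ^ p ^ (n - 3)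

theorem CD.x_mem {p n : ℕ} {S : Subgroup Ω} {x y z : Ω} (D : CD p n S x y z) : x ∈ S := by
  rw [← D.gen]; exact Subgroup.subset_closure (by simp)

theorem CD.y_mem {p n : ℕ} {S : Subgroup Ω} {x y z : Ω} (D : CD p n S x y z) : y ∈ S := by
  rw [← D.gen]; exact Subgroup.subset_closure (by simp)

theorem CD.z_mem {p n : ℕ} {S : Subgroup Ω} {x y z : Ω} (D : CD p n S x y z) : z ∈ S := by
  rw [← D.gen]; exact Subgroup.subset_closure (by simp)

theorem GD.x_mem {p n s : ℕ} {S : Subgroup Ω} {x y z : Ω} (D : GD p n s S x y z) : x ∈ S := by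
  rw [← D.gen]; exact Subgroup.subset_closure (by simp)

theorem GD.y_mem {p n s : ℕ} {S : Subgroup Ω} {x y z : Ω} (D : GD p n s S x y z) : y ∈ S := by
  rw [← D.gen]; exact Subgroup.subset_closure (by simp)

theorem GD.z_mem {p n s : ℕ} {S : Subgroup Ω} {x y z : Ω} (D : GD p n s S x y z) : z ∈ S := by
  rw [← D.gen]; exact Subgroup.subset_closure (by simp)

theorem GD.A_le {p n s : ℕ} {S : Subgroup Ω} {x y z : Ω} (D : GD p n s S x y z) : AA y z ≤ S := by
  unfold AA
  rw [Subgroup.closure_le]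
  rintro g (rfl | rfl)
  · exact D.y_mem
  · exact D.z_mem

theorem y_mem_AA (y z : Ω) : y ∈ AA y z := Subgroup.subset_closure (by simp)

theorem z_mem_AA (y z : Ω) : z ∈ AA y z := Subgroup.subset_closure (by simp)

theorem ww_mem_AA (p n : ℕ) (y z : Ω) : ww p n z ∈ AA y z :=
  Subgroup.pow_mem _ (z_mem_AA y z) _

end Cfsg.Agent.Helper27.R2
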