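import Mathlib
import Cfsg.Agent.Lib.R2.R2Defs

/-!
# R2 farm (S5289), piece R2-AUTA
every automorphism of S maps A into A (A is the unique abelian subgroup of index p: apply D.uniq to the image of A, which is abelian of the same order, hence of the same relIndex).
-/

set_option autoImplicit false
set_option linter.style.haveILetI false
set_option linter.unusedSectionVars false
set_option linter.unusedVariables false

namespace Cfsg.Agent.Helper27.R2

open Cfsg Cfsg.FusionSystem Cfsg.Agent.Helper25 Cfsg.Agent.Helper26 Cfsg.Agent.Helper3.KL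
open Cfsg.Agent.Helper3.TT Cfsg.Agent.Helper3.SC Cfsg.Agent.Helper3.OL

variable {Ω : Type*} [Group Ω] {S : Subgroup Ω} {x y z : Ω} {p n s : ℕ}


theorem od_aut_mem [Finite S] [Fact p.Prime] {A : Subgroup Ω} (D : OD p S A) (σ : MulAut S) {a : Ω}
    (ha : a ∈ A) : ((σ ⟨a, D.le ha⟩ : S) : Ω) ∈ A := by
  have hBS : ((A.subgroupOf S).map σ.toMonoidHom).map S.subtype ≤ S := by
    rintro _ ⟨b, -, rfl⟩; exact b.2
  have hsub : (((A.subgroupOf S).map σ.toMonoidHom).map S.subtype).subgroupOf S =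
      (A.subgroupOf S).map σ.toMonoidHom :=
    Subgroup.comap_map_eq_self_of_injective Subtype.coe_injective _
  have hcomm : ∀ u v : ↥(((A.subgroupOf S).map σ.toMonoidHom).map S.subtype), u * v = v * u := by
    rintro ⟨_, ⟨_, ⟨a₁, ha₁, rfl⟩, rfl⟩⟩ ⟨_, ⟨_, ⟨a₂, ha₂, rfl⟩, rfl⟩⟩
    apply Subtype.ext
    show ((σ a₁ : S) : Ω) * ((σ a₂ : S) : Ω) = ((σ a₂ : S) : Ω) * ((σ a₁ : S) : Ω)
    have h12 : a₁ * a₂ = a₂ * a₁ := by
      apply Subtype.ext
      exact D.comm' (Subgroup.mem_subgroupOf.mp ha₁) (Subgroup.mem_subgroupOf.mp ha₂)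
    have := congrArg (fun t : S => (t : Ω)) (congrArg σ h12)
    simpa using this
  have hidx : (((A.subgroupOf S).map σ.toMonoidHom).map S.subtype).relIndex S = p := by
    show ((((A.subgroupOf S).map σ.toMonoidHom).map S.subtype).subgroupOf S).index = p
    rw [hsub]
    have h1 : ((A.subgroupOf S).map σ.toMonoidHom).index = (A.subgroupOf S).index :=
      Subgroup.index_map_equiv (A.subgroupOf S) σ
    rw [h1]
    exact D.idx
  have hBA := D.uniq _ hBS hcomm hidx
  have hmem : ((σ ⟨a, D.le ha⟩ : S) : Ω) ∈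
      ((A.subgroupOf S).map σ.toMonoidHom).map S.subtype :=
    ⟨σ ⟨a, D.le ha⟩, ⟨⟨a, D.le ha⟩, Subgroup.mem_subgroupOf.mpr ha, rfl⟩, rfl⟩
  rw [hBA] at hmem
  exact hmem

end Cfsg.Agent.Helper27.R2
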