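import Mathlib
import Cfsg.Agent.Lib.R2.R2Defs

/-!
# R2 farm (S5289), piece R2-BASIC (helper27, proved)
no essential subgroups => S normal in F
-/

set_option autoImplicit false
set_option linter.style.haveILetI false
set_option linter.unusedSectionVars false
set_option linter.unusedVariables false

namespace Cfsg.Agent.Helper27.R2

open Cfsg Cfsg.FusionSystem Cfsg.Agent.Helper25 Cfsg.Agent.Helper26 Cfsg.Agent.Helper3.KL
open Cfsg.Agent.Helper3.TT Cfsg.Agent.Helper3.SC Cfsg.Agent.Helper3.OL

variable {Ω : Type*} [Group Ω] {S : Subgroup Ω} {x y z : Ω} {p n s : ℕ}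


theorem isNormal_of_no_essential [Finite S] [Fact p.Prime] (hS : IsPGroup p S)
    (F : FusionSystem S) (hF : F.IsSaturated p) (h : ∀ P : Subgroup Ω, ¬ F.IsEssential p P) :
    F.IsNormal S := by
  apply isNormal_of_forall_essential p hS F hF S
  rintro P (rfl | hP)
  · refine ⟨le_rfl, fun α hα => ?_⟩
    rw [Subgroup.subgroupOf_self]
    ext g
    constructor
    · intro _; trivial
    · intro _; exact ⟨α.symm g, trivial, by simp⟩
  · exact absurd hP (h P)

end Cfsg.Agent.Helper27.R2
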