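import Mathlib
import Cfsg.Agent.Lib.R2.R2Defs
import Cfsg.Agent.Lib.Helper21.MetaFusionOdd

/-!
# R2 farm (S5289), piece R2-BRDEFS (helper27, definitions only)
the action of Aut_F(P) on the Frattini quotient X = P / Frattini(P):  rhoQ P = Helper8.autQuot (frattini P);  GQ F P = image of Aut_F(P);  TQ S P = image of Aut_S(P);  HQ A P = image of A ⊓ P in X.
-/

set_option autoImplicit false
set_option linter.style.haveILetI false
set_option linter.unusedSectionVars false
set_option linter.unusedVariables false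

namespace Cfsg.Agent.Helper27.R2

open Cfsg Cfsg.FusionSystem Cfsg.Agent.Helper25 Cfsg.Agent.Helper26 Cfsg.Agent.Helper3.KL
open Cfsg.Agent.Helper3.TT Cfsg.Agent.Helper3.SC Cfsg.Agent.Helper3.OL

variable {Ω : Type*} [Group Ω] {S : Subgroup Ω} {x y z : Ω} {p n s : ℕ}


/-- the Frattini quotient of `P` -/
abbrev XQ (P : Subgroup Ω) := ↥P ⧸ frattini ↥P

/-- the action on the Frattini quotient -/
noncomputable def rhoQ (P : Subgroup Ω) : MulAut ↥P →* MulAut (XQ P) :=
  Cfsg.Agent.Helper8.autQuot (frattini ↥P)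

theorem rhoQ_mk (P : Subgroup Ω) (α : MulAut ↥P) (e : ↥P) :
    rhoQ P α (QuotientGroup.mk e) = QuotientGroup.mk (α e) := rfl

/-- the image of `Aut_F(P)` -/
noncomputable def GQ (F : FusionSystem S) (P : Subgroup Ω) : Subgroup (MulAut (XQ P)) :=
  (F.autGroup P).map (rhoQ P)

/-- the image of `Aut_S(P)` -/
noncomputable def TQ (S P : Subgroup Ω) : Subgroup (MulAut (XQ P)) :=
  (autInducedBy S P).map (rhoQ P)

/-- the image of `A ⊓ P` -/
def HQ (A P : Subgroup Ω) : Subgroup (XQ P) :=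
  (A.subgroupOf P).map (QuotientGroup.mk' (frattini ↥P))

theorem TQ_le_GQ (F : FusionSystem S) {P : Subgroup Ω} (hPS : P ≤ S) : TQ S P ≤ GQ F P :=
  Subgroup.map_mono (autInducedBy_le_autGroup F hPS)

theorem XQ_comm [Finite S] [Fact p.Prime] (hS : IsPGroup p S) {P : Subgroup Ω} (hPS : P ≤ S)
    (v w : XQ P) : v * w = w * v := by
  haveI : Finite P := finite_of_le_finite hPS
  exact Cfsg.Agent.Helper21.MetaFusionOdd.quot_comm (hS.to_le hPS) v w

theorem XQ_exp [Finite S] [Fact p.Prime] (hS : IsPGroup p S) {P : Subgroup Ω} (hPS : P ≤ S)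
    (v : XQ P) : v ^ p = 1 := by
  haveI : Finite P := finite_of_le_finite hPS
  exact Cfsg.Agent.Helper21.MetaFusionOdd.quot_exp (hS.to_le hPS) v

end Cfsg.Agent.Helper27.R2
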