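import Mathlib
import Cfsg.Agent.Lib.R2.R2Defs
import Cfsg.Agent.Lib.R2.R2BrDefs

/-!
# R2 farm (S5289), piece R2-BRKER
an F-automorphism of an essential P acting trivially on the Frattini quotient is inner.  C := (rhoQ P).ker ⊓ F.autGroup P is normal in Aut_F(P) and a p-group (Burnside: Helper8.eq_one_of_autQuot_frattini in Lib/Helper8/AutQuot.lean kills every p'-element of the kernel; so every element of C has p-power order), hence C <= Inn P by helper3's OL.le_inn_of_normal (Lib/Helper3/OliverB1.lean).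
-/

set_option autoImplicit false
set_option linter.style.haveILetI false
set_option linter.unusedSectionVars false
set_option linter.unusedVariables false

namespace Cfsg.Agent.Helper27.R2

open Cfsg Cfsg.FusionSystem Cfsg.Agent.Helper25 Cfsg.Agent.Helper26 Cfsg.Agent.Helper3.KL
open Cfsg.Agent.Helper3.TT Cfsg.Agent.Helper3.SC Cfsg.Agent.Helper3.OL

variable {Ω : Type*} [Group Ω] {S : Subgroup Ω} {x y z : Ω} {p n s : ℕ}

/-- every element of the kernel of `rhoQ P` has `p`-power order (Burnside) -/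
theorem r2brker_pow [Finite S] [Fact p.Prime] {P : Subgroup Ω} (hS : IsPGroup p S) (hPS : P ≤ S)
    (β : MulAut P) (hβ : β ∈ (rhoQ P).ker) : ∃ k : ℕ, β ^ p ^ k = 1 := by
  haveI : Finite P := finite_of_le_finite hPS
  haveI : Finite (MulAut P) :=
    Finite.of_injective (fun α : MulAut P => (α : P → P)) DFunLike.coe_injective
  have hp : p.Prime := Fact.out
  have hn0 : orderOf β ≠ 0 := (orderOf_pos β).ne'
  obtain ⟨k, m, hm, hkm⟩ := Nat.exists_eq_pow_mul_and_not_dvd hn0 p hp.ne_one
  refine ⟨k, ?_⟩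
  have hγm : (β ^ p ^ k) ^ m = 1 := by
    rw [← pow_mul, ← hkm, pow_orderOf_eq_one]
  have hdvd : orderOf (β ^ p ^ k) ∣ m := orderOf_dvd_of_pow_eq_one hγm
  have hcop : (orderOf (β ^ p ^ k)).Coprime p :=
    Nat.Coprime.coprime_dvd_left hdvd ((Nat.Prime.coprime_iff_not_dvd hp).mpr hm).symm
  have hker : β ^ p ^ k ∈ (Cfsg.Agent.Helper8.autQuot (frattini ↥P)).ker :=
    Subgroup.pow_mem _ hβ _
  exact Cfsg.Agent.Helper8.eq_one_of_autQuot_frattini (hS.to_le hPS) _ hcop hker

theorem ker_le_inn [Finite S] [Fact p.Prime] {F : FusionSystem S} {P : Subgroup Ω}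
    (hS : IsPGroup p S) (hP : F.IsEssential p P) {α : MulAut P} (hα : α ∈ F.autGroup P)
    (hker : rhoQ P α = 1) : α ∈ Inn P := by
  have hPS : P ≤ S := hP.1.1
  have hCA : (rhoQ P).ker ⊓ F.autGroup P ≤ F.autGroup P := inf_le_right
  have hCn : (((rhoQ P).ker ⊓ F.autGroup P).subgroupOf (F.autGroup P)).Normal := by
    rw [Subgroup.inf_subgroupOf_right]
    infer_instance
  have hCp : IsPGroup p ↥((rhoQ P).ker ⊓ F.autGroup P) := by
    intro β
    obtain ⟨k, hk⟩ := r2brker_pow hS hPS (β : MulAut P) β.2.1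
    refine ⟨k, ?_⟩
    apply Subtype.ext
    rw [SubgroupClass.coe_pow, hk]
    rfl
  have hle := le_inn_of_normal hP _ hCA hCn hCp
  exact hle ⟨MonoidHom.mem_ker.mpr hker, hα⟩

/-- inner automorphisms act trivially on the (abelian) Frattini quotient -/
theorem rhoQ_inn [Finite S] [Fact p.Prime] {P : Subgroup Ω} (hS : IsPGroup p S) (hPS : P ≤ S)
    {α : MulAut P} (hα : α ∈ Inn P) : rhoQ P α = 1 := by
  obtain ⟨g, rfl⟩ := hα
  ext q
  induction q using QuotientGroup.induction_on with
  | _ e =>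
    rw [rhoQ_mk, MulAut.conj_apply, MulAut.one_apply, QuotientGroup.mk_mul, QuotientGroup.mk_mul,
      QuotientGroup.mk_inv, XQ_comm hS hPS (g : XQ P) (e : XQ P), mul_inv_cancel_right]

end Cfsg.Agent.Helper27.R2
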