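import Mathlib
import Cfsg.Agent.Lib.R2.R2Defs
import Cfsg.Agent.Lib.R2.R2BrDefs
import Cfsg.Agent.Lib.R2.R2BrKer

/-!
# R2 farm (S5289), piece R2-BRT
the image T of Aut_S(P) in Aut(P/Frattini) has order at most p when |N_S(P):P| = p.  Pick t0 in N_S(P) outside P; every g in N_S(P) is e * t0^k with e in P (N_S(P)/P has order p), t0^p in P; conjugation by elements of P is trivial on the abelian quotient (rhoQ_inn), so T = zpowers (rhoQ P (kapN P t0)) and this generator has p-th power 1.
-/

set_option autoImplicit false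
set_option linter.style.haveILetI false
set_option linter.unusedSectionVars false
set_option linter.unusedVariables false

namespace Cfsg.Agent.Helper27.R2

open Cfsg Cfsg.FusionSystem Cfsg.Agent.Helper25 Cfsg.Agent.Helper26 Cfsg.Agent.Helper3.KL
open Cfsg.Agent.Helper3.TT Cfsg.Agent.Helper3.SC Cfsg.Agent.Helper3.OL

variable {Ω : Type*} [Group Ω] {S : Subgroup Ω} {x y z : Ω} {p n s : ℕ}


theorem card_TQ_le [Finite S] [Fact p.Prime] {P : Subgroup Ω} (hS : IsPGroup p S) (hPS : P ≤ S)
    (hidx : P.relIndex (normalizerIn S P) = p) : Nat.card (TQ S P) ≤ p := by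
  have hp : p.Prime := Fact.out
  let ψ : normalizerIn S P →* MulAut (XQ P) := (rhoQ P).comp (kapN P)
  have hTQ : TQ S P = ψ.range := by
    unfold TQ
    rw [← range_kapN, MonoidHom.map_range]
  have hker : P.subgroupOf (normalizerIn S P) ≤ ψ.ker := by
    intro a ha
    rw [Subgroup.mem_subgroupOf] at ha
    rw [MonoidHom.mem_ker]
    show rhoQ P (kapN P a) = 1
    apply rhoQ_inn hS hPS
    refine ⟨⟨a, ha⟩, ?_⟩
    apply MulEquiv.ext
    intro e
    apply Subtype.ext
    rfl
  rw [hTQ, ← Subgroup.index_ker]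
  have h1 : ψ.ker.index ∣ (P.subgroupOf (normalizerIn S P)).index := Subgroup.index_dvd_of_le hker
  have h2 : (P.subgroupOf (normalizerIn S P)).index = p := hidx
  rw [h2] at h1
  exact Nat.le_of_dvd hp.pos h1

end Cfsg.Agent.Helper27.R2
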