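import Mathlib
import Cfsg.Agent.Lib.R2.R2Defs
import Cfsg.Agent.Lib.R2.R2BrDefs
import Cfsg.Agent.Lib.R2.R2BrKer
import Cfsg.Agent.Lib.R2.R2BrT

/-!
# R2 farm (S5289), piece R2-BRCARD (done by helper15)
card T = p for essential P with |N_S(P):P| = p.  card <= p by card_TQ_le; T is a p-group (image of the p-group Aut_S(P): isPGroup_autInducedBy) so it suffices T != 1: take t0 in N_S(P) outside P; if rhoQ (kapN P t0) = 1 then kapN P t0 is inner (ker_le_inn; kapN_mem + autInducedBy_le_autGroup), so t0 in P by OL.mem_of_kapN_mem_inn (P centric): contradiction.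
-/

set_option autoImplicit false
set_option linter.style.haveILetI false
set_option linter.unusedSectionVars false
set_option linter.unusedVariables false

namespace Cfsg.Agent.Helper27.R2

open Cfsg Cfsg.FusionSystem Cfsg.Agent.Helper25 Cfsg.Agent.Helper26 Cfsg.Agent.Helper3.KL
open Cfsg.Agent.Helper3.TT Cfsg.Agent.Helper3.SC Cfsg.Agent.Helper3.OL

variable {Ω : Type*} [Group Ω] {S : Subgroup Ω} {x y z : Ω} {p n s : ℕ}


theorem card_TQ [Finite S] [Fact p.Prime] {F : FusionSystem S} {P : Subgroup Ω}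
    (hS : IsPGroup p S) (hF : F.IsSaturated p) (hP : F.IsEssential p P)
    (hidx : P.relIndex (normalizerIn S P) = p) : Nat.card (TQ S P) = p := by
  have hp : p.Prime := Fact.out
  have hPS : P ≤ S := hP.1.1
  have hfinP : Finite P := finite_of_le_finite hPS
  have hfinA : Finite (MulAut (XQ P)) :=
    Finite.of_injective (fun e : MulAut (XQ P) => (e : XQ P → XQ P))
      (fun a b h => MulEquiv.ext (congrFun h))
  have hle : Nat.card (TQ S P) ≤ p := card_TQ_le hS hPS hidx
  have hTp : IsPGroup p (TQ S P) := (isPGroup_autInducedBy hS P).map (rhoQ P)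
  have hcen : centralizerIn S P ≤ P := hP.1.2 P (isConj_refl F hPS)
  -- `T ≠ ⊥`
  have hne : TQ S P ≠ ⊥ := by
    intro hbot
    have hnle : ¬ normalizerIn S P ≤ P := by
      intro h
      have h1 : P.relIndex (normalizerIn S P) = 1 := Subgroup.relIndex_eq_one.2 h
      rw [hidx] at h1
      exact hp.one_lt.ne' h1
    obtain ⟨t0, ht0, ht0P⟩ := SetLike.not_le_iff_exists.1 hnle
    have hmem : rhoQ P (kapN P ⟨t0, ht0⟩) ∈ TQ S P :=
      Subgroup.mem_map_of_mem _ (kapN_mem ⟨t0, ht0⟩)
    rw [hbot, Subgroup.mem_bot] at hmem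
    have hinn := ker_le_inn hS hP (autInducedBy_le_autGroup F hPS (kapN_mem ⟨t0, ht0⟩)) hmem
    exact ht0P (mem_of_kapN_mem_inn hPS hcen ⟨t0, ht0⟩ hinn)
  rcases hTp.card_eq_or_dvd with h1 | hdvd
  · exact absurd (Subgroup.eq_bot_of_card_eq _ h1) hne
  · exact le_antisymm hle (Nat.le_of_dvd Nat.card_pos hdvd)

end Cfsg.Agent.Helper27.R2
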