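import Mathlib
import Cfsg.Agent.Lib.R2.R2Defs
import Cfsg.Agent.Lib.R2.R2BrDefs
import Cfsg.Agent.Lib.R2.R2BrKer

/-!
# R2 farm (S5289), piece R2-BRCONJ (done by helper15)
every element v of G = rhoQ(Aut_F(P)) with v^p = 1 is G-conjugate into T = rhoQ(Aut_S(P)) (compare OL.AE.exists_conj in Lib/Helper3/OliverC5.lean).  v = rhoQ alpha, alpha in Aut_F(P); alpha^p is in the kernel, so in Inn P (ker_le_inn), a p-group: <alpha> is a p-group; Sylow (P fully automized by of_fullyNormalized): alpha = g beta g^-1 with g in Aut_F(P), beta in Aut_S(P).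
-/

set_option autoImplicit false
set_option linter.style.haveILetI false
set_option linter.unusedSectionVars false
set_option linter.unusedVariables false

namespace Cfsg.Agent.Helper27.R2

open Cfsg Cfsg.FusionSystem Cfsg.Agent.Helper25 Cfsg.Agent.Helper26 Cfsg.Agent.Helper3.KL
open Cfsg.Agent.Helper3.TT Cfsg.Agent.Helper3.SC Cfsg.Agent.Helper3.OL

variable {Ω : Type*} [Group Ω] {S : Subgroup Ω} {x y z : Ω} {p n s : ℕ}


theorem conj_GQ [Finite S] [Fact p.Prime] {F : FusionSystem S} {P : Subgroup Ω}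
    (hS : IsPGroup p S) (hF : F.IsSaturated p) (hP : F.IsEssential p P) :
    ∀ v ∈ GQ F P, v ^ p = 1 → ∃ g ∈ GQ F P, ∃ t ∈ TQ S P, v = g * t * g⁻¹ := by
  have hp : p.Prime := Fact.out
  have hPS : P ≤ S := hP.1.1
  have hfinP : Finite P := finite_of_le_finite hPS
  have hfinA : Finite (MulAut P) :=
    Finite.of_injective (fun e : MulAut P => (e : P → P)) (fun a b h => MulEquiv.ext (congrFun h))
  obtain ⟨-, hfa, -⟩ := of_fullyNormalized p hS F hF hP.2.1
  obtain ⟨-, R, hR⟩ := hfa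
  rintro v ⟨α, hα, rfl⟩ hv
  -- `α ^ p` is inner, hence of `p`-power order
  have hαp : α ^ p ∈ F.autGroup P := Subgroup.pow_mem _ hα p
  have hker : rhoQ P (α ^ p) = 1 := by rw [map_pow]; exact hv
  have hinn : α ^ p ∈ Inn P := ker_le_inn hS hP hαp hker
  obtain ⟨k, hk⟩ := isPGroup_autInducedBy hS P ⟨α ^ p, inn_le_autInducedBy hPS hinn⟩
  have hk' : α ^ p ^ (k + 1) = 1 := by
    have h1 : (α ^ p) ^ p ^ k = 1 := by simpa using congrArg Subtype.val hk
    rw [pow_succ', pow_mul]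
    exact h1
  have hSg : IsPGroup p (Subgroup.zpowers (⟨α, hα⟩ : F.autGroup P)) := by
    rintro ⟨g, hg⟩
    obtain ⟨m, rfl⟩ := Subgroup.mem_zpowers_iff.mp hg
    refine ⟨k + 1, ?_⟩
    apply Subtype.ext
    show ((⟨α, hα⟩ : F.autGroup P) ^ m) ^ p ^ (k + 1) = 1
    rw [← zpow_natCast, ← zpow_mul, mul_comm, zpow_mul, zpow_natCast]
    have h2 : (⟨α, hα⟩ : F.autGroup P) ^ p ^ (k + 1) = 1 := Subtype.ext hk'
    rw [h2, one_zpow]
  obtain ⟨l, hl⟩ := exists_conj_le_sylow R hSg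
  have h1 := hl _ (Subgroup.mem_zpowers _)
  rw [hR, Subgroup.mem_subgroupOf] at h1
  refine ⟨rhoQ P ((l⁻¹ : F.autGroup P) : MulAut P), Subgroup.mem_map_of_mem _ (l⁻¹).2,
    rhoQ P _, Subgroup.mem_map_of_mem _ h1, ?_⟩
  rw [← map_mul, ← map_inv, ← map_mul]
  congr 1
  simp only [Subgroup.coe_mul, Subgroup.coe_inv, inv_inv]
  group

end Cfsg.Agent.Helper27.R2
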