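import Mathlib
import Cfsg.Agent.Lib.R2.R2Defs
import Cfsg.Agent.Lib.R2.R2BrDefs

/-!
# R2 farm (S5289), piece R2-BRH
the hyperplane H = image of A ⊓ P in X = P/Frattini(P) (D : OD p S A, P not inside A).  Index: A ⊓ P has index p in P (OD.relIndex_of_not_le), so it is a maximal subgroup and contains Frattini(P); hence the image has index p.  Stabilizer: for g in N_S(P) write g = a x'^k with a in A and x' in P outside A (OD.exists_mul_pow): for e in A ⊓ P, g e g^-1 = x'^k e x'^-k (A abelian and normal) which is congruent to e modulo Frattini(P) (the quotient is abelian); for e in P, g e g^-1 e^-1 lies in A (helper3's OL.comm_mem_range) and in P.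
-/

set_option autoImplicit false
set_option linter.style.haveILetI false
set_option linter.unusedSectionVars false
set_option linter.unusedVariables false

namespace Cfsg.Agent.Helper27.R2

open Cfsg Cfsg.FusionSystem Cfsg.Agent.Helper25 Cfsg.Agent.Helper26 Cfsg.Agent.Helper3.KL
open Cfsg.Agent.Helper3.TT Cfsg.Agent.Helper3.SC Cfsg.Agent.Helper3.OL

variable {Ω : Type*} [Group Ω] {S : Subgroup Ω} {x y z : Ω} {p n s : ℕ}

/-- a subgroup of prime index is maximal -/
theorem r2brh_isCoatom_of_index_prime {G : Type*} [Group G] {K : Subgroup G} {q : ℕ}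
    (hq : q.Prime) (hK : K.index = q) : IsCoatom K := by
  constructor
  · intro h
    rw [h, Subgroup.index_top] at hK
    exact hq.one_lt.ne hK
  · intro L hKL
    have h1 := Subgroup.relIndex_mul_index hKL.le
    rw [hK] at h1
    have h2 : L.index ∣ q := Dvd.intro_left _ h1
    rcases (Nat.dvd_prime hq).mp h2 with h3 | h3
    · exact Subgroup.index_eq_one.mp h3
    · exfalso
      rw [h3] at h1
      have h4 : K.relIndex L = 1 :=
        Nat.eq_of_mul_eq_mul_right hq.pos (by rw [h1, one_mul])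
      have h5 : L ≤ K := Subgroup.relIndex_eq_one.mp h4
      exact lt_irrefl _ (lt_of_lt_of_le hKL h5)

theorem HQ_index [Finite S] [Fact p.Prime] {A P : Subgroup Ω} (D : OD p S A) (hPS : P ≤ S)
    (hPA : ¬ P ≤ A) : (HQ A P).index = p := by
  have hidx : (A.subgroupOf P).index = p := D.relIndex_of_not_le hPS hPA
  have hco := r2brh_isCoatom_of_index_prime (Fact.out : p.Prime) hidx
  have hfr : frattini ↥P ≤ A.subgroupOf P := frattini_le_coatom hco
  unfold HQ
  have hker : (QuotientGroup.mk' (frattini ↥P)).ker ≤ A.subgroupOf P := by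
    rw [QuotientGroup.ker_mk']
    exact hfr
  rw [Subgroup.index_map_eq (A.subgroupOf P) (QuotientGroup.mk'_surjective (frattini ↥P)) hker,
    hidx]

theorem TQ_le_stab [Finite S] [Fact p.Prime] {A P : Subgroup Ω} (D : OD p S A) (hPS : P ≤ S)
    (hPA : ¬ P ≤ A) : TQ S P ≤ stab (HQ A P) := by
  haveI : Finite P := finite_of_le_finite hPS
  obtain ⟨x', hx'P, hx'A⟩ : ∃ x' ∈ P, x' ∉ A := by
    by_contra hcon
    push Not at hcon
    exact hPA hcon
  have hx'S : x' ∈ S := hPS hx'P
  rintro h ⟨α, hα, rfl⟩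
  obtain ⟨g, hgS, hg⟩ := (mem_autInducedBy_iff α).mp hα
  obtain ⟨a, haA, k, hgk⟩ := D.exists_mul_pow hx'S hx'A hgS
  rw [mem_stab]
  constructor
  · rintro w ⟨e, heA, rfl⟩
    have heA' : (e : Ω) ∈ A := Subgroup.mem_subgroupOf.mp heA
    have hyA : x' ^ k * (e : Ω) * (x' ^ k)⁻¹ ∈ A := by
      have hn := D.norm (S.pow_mem hx'S k)
      exact (Subgroup.mem_normalizer_iff.mp hn (e : Ω)).mp heA'
    have hαe : ((α e : P) : Ω) = x' ^ k * (e : Ω) * (x' ^ k)⁻¹ := by
      rw [hg e, hgk, mul_inv_rev]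
      have hc := D.comm' haA hyA
      calc a * x' ^ k * (e : Ω) * ((x' ^ k)⁻¹ * a⁻¹)
          = a * (x' ^ k * (e : Ω) * (x' ^ k)⁻¹) * a⁻¹ := by group
        _ = (x' ^ k * (e : Ω) * (x' ^ k)⁻¹) * a * a⁻¹ := by rw [hc]
        _ = x' ^ k * (e : Ω) * (x' ^ k)⁻¹ := by group
    have hαe' : α e = (⟨x' ^ k, P.pow_mem hx'P k⟩ : P) * e * (⟨x' ^ k, P.pow_mem hx'P k⟩ : P)⁻¹ :=
      Subtype.ext (by rw [hαe]; rfl)
    change rhoQ P α (QuotientGroup.mk e) = QuotientGroup.mk e
    rw [rhoQ_mk, hαe', QuotientGroup.mk_mul, QuotientGroup.mk_mul, QuotientGroup.mk_inv,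
      XQ_comm D.pg hPS ((⟨x' ^ k, P.pow_mem hx'P k⟩ : P) : XQ P) (e : XQ P),
      mul_inv_cancel_right]
  · intro v
    induction v using QuotientGroup.induction_on with
    | _ e =>
      rw [rhoQ_mk]
      have hmem : ((α e * e⁻¹ : P) : Ω) ∈ A := by
        have h1 := comm_mem_range D hx'S hx'A hgS (hPS e.2)
        obtain ⟨b, -, hb⟩ := h1
        rw [Subgroup.coe_mul, Subgroup.coe_inv, hg e, ← hb]
        exact b.2
      refine ⟨α e * e⁻¹, Subgroup.mem_subgroupOf.mpr hmem, ?_⟩
      rw [QuotientGroup.mk'_apply, QuotientGroup.mk_mul, QuotientGroup.mk_inv]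

end Cfsg.Agent.Helper27.R2
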