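import Mathlib
import Cfsg.Agent.Lib.R2.R2Defs
import Cfsg.Agent.Lib.R2.R2BrDefs
import Cfsg.Agent.Lib.R2.R2BrH

/-!
# R2 farm (S5289), piece R2-BRLIFTA
lifting the action: if rhoQ delta maps every v to v^2 modulo H = HQ A P, then delta e is congruent to e^2 modulo A.  mk(delta e * (e^2)^-1) in HQ A P means delta e (e^2)^-1 = b * f with b in A ⊓ P, f in Frattini(P); Frattini(P) <= A ⊓ P as in HQ_index (P/(A ⊓ P) has order p); so delta e (e^2)^-1 in A; A is normal in S (OD.norm), so (e^2)^-1 delta e = (e^2)^-1 (delta e (e^2)^-1) e^2 in A.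
-/

set_option autoImplicit false
set_option linter.style.haveILetI false
set_option linter.unusedSectionVars false
set_option linter.unusedVariables false

namespace Cfsg.Agent.Helper27.R2

open Cfsg Cfsg.FusionSystem Cfsg.Agent.Helper25 Cfsg.Agent.Helper26 Cfsg.Agent.Helper3.KL
open Cfsg.Agent.Helper3.TT Cfsg.Agent.Helper3.SC Cfsg.Agent.Helper3.OL

variable {Ω : Type*} [Group Ω] {S : Subgroup Ω} {x y z : Ω} {p n s : ℕ}

/-- a subgroup of prime index is a coatom -/
theorem r2brlifta_isCoatom {H : Type*} [Group H] [Finite H] [hp : Fact p.Prime] (M : Subgroup H)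
    (hM : M.index = p) : IsCoatom M := by
  constructor
  · intro h
    rw [h, Subgroup.index_top] at hM
    exact hp.out.one_lt.ne hM
  · intro N hN
    have h1 : N.index ∣ M.index := Subgroup.index_dvd_of_le hN.le
    rw [hM] at h1
    rcases (Nat.dvd_prime hp.out).mp h1 with h2 | h2
    · exact Subgroup.index_eq_one.mp h2
    · exfalso
      have h3 : M.relIndex N = 1 := by
        have := Subgroup.relIndex_mul_index hN.le
        rw [hM, h2] at this
        have hp0 := hp.out.pos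
        exact Nat.eq_of_mul_eq_mul_right hp0 (by rw [this, one_mul])
      have h4 : N ≤ M := Subgroup.relIndex_eq_one.mp h3
      exact lt_irrefl _ (lt_of_lt_of_le hN h4)

theorem lift_act [Finite S] [Fact p.Prime] {A P : Subgroup Ω} (D : OD p S A) (hPS : P ≤ S)
    (hPA : ¬ P ≤ A) {δ : MulAut P}
    (h : ∀ v : XQ P, rhoQ P δ v * (v ^ 2)⁻¹ ∈ HQ A P) :
    ∀ e : P, ((e : Ω) ^ 2)⁻¹ * ((δ e : P) : Ω) ∈ A := by
  intro e
  haveI : Finite P := finite_of_le_finite hPS
  have hidx : (A.subgroupOf P).index = p := D.relIndex_of_not_le hPS hPA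
  have hco : IsCoatom (A.subgroupOf P) := r2brlifta_isCoatom _ hidx
  have hfr : frattini P ≤ A.subgroupOf P := frattini_le_coatom hco
  have h1 := h (QuotientGroup.mk e)
  rw [rhoQ_mk] at h1
  have h2 : (QuotientGroup.mk (δ e) : XQ P) * ((QuotientGroup.mk e : XQ P) ^ 2)⁻¹
      = QuotientGroup.mk (δ e * (e ^ 2)⁻¹) := rfl
  rw [h2] at h1
  obtain ⟨b, hb, hbe⟩ := h1
  have h3 : b⁻¹ * (δ e * (e ^ 2)⁻¹) ∈ frattini P := QuotientGroup.eq.mp hbe
  have h4 : δ e * (e ^ 2)⁻¹ ∈ A.subgroupOf P := by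
    have := Subgroup.mul_mem _ hb (hfr h3)
    simpa using this
  have h5 : ((δ e : P) : Ω) * ((e : Ω) ^ 2)⁻¹ ∈ A := by
    have := Subgroup.mem_subgroupOf.mp h4
    simpa using this
  have he2S : ((e : Ω) ^ 2)⁻¹ ∈ S := S.inv_mem (S.pow_mem (hPS e.2) 2)
  have hn := D.norm he2S
  have h6 := (Subgroup.mem_normalizer_iff.mp hn _).mp h5
  have h7 : ((e : Ω) ^ 2)⁻¹ * (((δ e : P) : Ω) * ((e : Ω) ^ 2)⁻¹) * (((e : Ω) ^ 2)⁻¹)⁻¹
      = ((e : Ω) ^ 2)⁻¹ * ((δ e : P) : Ω) := by group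
  rw [h7] at h6
  exact h6

end Cfsg.Agent.Helper27.R2
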