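import Mathlib
import Cfsg.Agent.Lib.R2.R2Defs
import Cfsg.Agent.Lib.R2.R2BrDefs
import Cfsg.Agent.Lib.R2.R2BrKer

/-!
# R2 farm (S5289), piece R2-BRLIFTN
lifting the normalizing property: if rhoQ delta normalizes T then delta normalizes Aut_S(P).  For beta in Aut_S(P): rhoQ(delta beta delta^-1) = rhoQ beta' with beta' in Aut_S(P); so delta beta delta^-1 beta'^-1 is in Aut_F(P) and in the kernel, hence inner (ker_le_inn), and Inn P <= Aut_S(P) (conjugation by elements of P <= N_S(P)).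
-/

set_option autoImplicit false
set_option linter.style.haveILetI false
set_option linter.unusedSectionVars false
set_option linter.unusedVariables false

namespace Cfsg.Agent.Helper27.R2

open Cfsg Cfsg.FusionSystem Cfsg.Agent.Helper25 Cfsg.Agent.Helper26 Cfsg.Agent.Helper3.KL
open Cfsg.Agent.Helper3.TT Cfsg.Agent.Helper3.SC Cfsg.Agent.Helper3.OL

variable {Ω : Type*} [Group Ω] {S : Subgroup Ω} {x y z : Ω} {p n s : ℕ}


theorem lift_norm [Finite S] [Fact p.Prime] {F : FusionSystem S} {P : Subgroup Ω}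
    (hS : IsPGroup p S) (hP : F.IsEssential p P) {δ : MulAut P} (hδ : δ ∈ F.autGroup P)
    (h : ∀ t ∈ TQ S P, rhoQ P δ * t * (rhoQ P δ)⁻¹ ∈ TQ S P) :
    ∀ β ∈ autInducedBy S P, δ * β * δ⁻¹ ∈ autInducedBy S P := by
  intro β hβ
  have hPS : P ≤ S := hP.1.1
  have hAS : autInducedBy S P ≤ F.autGroup P := autInducedBy_le_autGroup F hPS
  have h1 : rhoQ P δ * rhoQ P β * (rhoQ P δ)⁻¹ ∈ TQ S P :=
    h (rhoQ P β) (Subgroup.mem_map_of_mem _ hβ)
  obtain ⟨β', hβ', hβ'e⟩ := Subgroup.mem_map.mp h1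
  have hκF : δ * β * δ⁻¹ * β'⁻¹ ∈ F.autGroup P :=
    (F.autGroup P).mul_mem ((F.autGroup P).mul_mem ((F.autGroup P).mul_mem hδ (hAS hβ))
      ((F.autGroup P).inv_mem hδ)) ((F.autGroup P).inv_mem (hAS hβ'))
  have hκk : rhoQ P (δ * β * δ⁻¹ * β'⁻¹) = 1 := by
    rw [map_mul, map_mul, map_mul, map_inv, map_inv, hβ'e]
    group
  have hκI : δ * β * δ⁻¹ * β'⁻¹ ∈ Inn P := ker_le_inn hS hP hκF hκk
  have hκS : δ * β * δ⁻¹ * β'⁻¹ ∈ autInducedBy S P := inn_le_autInducedBy hPS hκI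
  have e : δ * β * δ⁻¹ = (δ * β * δ⁻¹ * β'⁻¹) * β' := by group
  rw [e]
  exact (autInducedBy S P).mul_mem hκS hβ'

end Cfsg.Agent.Helper27.R2
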