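import Mathlib
import Cfsg.Agent.Lib.R2.R2Defs
import Cfsg.Agent.Lib.R2.R2BrDefs
import Cfsg.Agent.Lib.R2.R2BrKer
import Cfsg.Agent.Lib.R2.R2BrLiftN

/-!
# R2 farm (S5289), piece R2-BRNN
T is not normal in G for essential P (compare OL.AE.exists_second in Lib/Helper3/OliverC5.lean): otherwise every delta in Aut_F(P) normalizes Aut_S(P) (lift_norm), so Aut_S(P) is a normal p-subgroup of Aut_F(P) containing Aut_S(P): contradiction with Helper26's not_essential_of_normal_pSubgroup (Lib/Helper26/EssentialChain.lean).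
-/

set_option autoImplicit false
set_option linter.style.haveILetI false
set_option linter.unusedSectionVars false
set_option linter.unusedVariables false

namespace Cfsg.Agent.Helper27.R2

open Cfsg Cfsg.FusionSystem Cfsg.Agent.Helper25 Cfsg.Agent.Helper26 Cfsg.Agent.Helper3.KL
open Cfsg.Agent.Helper3.TT Cfsg.Agent.Helper3.SC Cfsg.Agent.Helper3.OL

variable {Ω : Type*} [Group Ω] {S : Subgroup Ω} {x y z : Ω} {p n s : ℕ}


theorem not_normal_TQ [Finite S] [Fact p.Prime] {F : FusionSystem S} {P : Subgroup Ω}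
    (hS : IsPGroup p S) (hF : F.IsSaturated p) (hP : F.IsEssential p P) :
    ∃ g ∈ GQ F P, ∃ t ∈ TQ S P, g * t * g⁻¹ ∉ TQ S P := by
  by_contra hall
  push Not at hall
  have hPS : P ≤ S := hP.1.1
  refine not_essential_of_normal_pSubgroup p hS F hF hP (autInducedBy S P)
    (autInducedBy_le_autGroup F hPS) ?_ (isPGroup_autInducedBy hS P) le_rfl
  refine ⟨fun a ha g => ?_⟩
  rw [Subgroup.mem_subgroupOf] at ha ⊢
  have hg : rhoQ P (g : MulAut P) ∈ GQ F P := ⟨(g : MulAut P), g.2, rfl⟩
  have h1 := lift_norm hS hP g.2 (fun t ht => hall _ hg t ht) (a : MulAut P) ha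
  exact h1

end Cfsg.Agent.Helper27.R2
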