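import Mathlib
import Cfsg.Agent.Lib.R2.R2Defs
import Cfsg.Agent.Lib.R2.R2BrDefs
import Cfsg.Agent.Lib.R2.R2BrKer
import Cfsg.Agent.Lib.R2.R2BrT

/-!
# R2 farm (S5289), piece R2-BRSYL
p-subgroups of G = rhoQ(Aut_F(P)) have order at most p (helper3's TT.SmallSylow; compare OL.AE.smallSylow in Lib/Helper3/OliverC5.lean).  For a p-subgroup K <= G let K' = {alpha in Aut_F(P) | rhoQ alpha in K}; K' is a p-group (rhoQ alpha has p-power order, so alpha^(p^k) lies in the kernel, which meets Aut_F(P) in a subgroup of Inn P (ker_le_inn), a p-group).  P is fully automized (of_fullyNormalized), so K' lies in a conjugate g Aut_S(P) g^-1 (Sylow), hence K = rhoQ(K') <= rhoQ(g) T rhoQ(g)^-1 and card K <= card T <= p (card_TQ_le).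
-/

set_option autoImplicit false
set_option linter.style.haveILetI false
set_option linter.unusedSectionVars false
set_option linter.unusedVariables false

namespace Cfsg.Agent.Helper27.R2

open Cfsg Cfsg.FusionSystem Cfsg.Agent.Helper25 Cfsg.Agent.Helper26 Cfsg.Agent.Helper3.KL
open Cfsg.Agent.Helper3.TT Cfsg.Agent.Helper3.SC Cfsg.Agent.Helper3.OL

variable {Ω : Type*} [Group Ω] {S : Subgroup Ω} {x y z : Ω} {p n s : ℕ}


theorem smallSylow_GQ [Finite S] [Fact p.Prime] {F : FusionSystem S} {P : Subgroup Ω}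
    (hS : IsPGroup p S) (hF : F.IsSaturated p) (hP : F.IsEssential p P)
    (hidx : P.relIndex (normalizerIn S P) = p) : SmallSylow p (GQ F P) := by
  intro K hK hKp
  have hp : p.Prime := Fact.out
  have hPS : P ≤ S := hP.1.1
  haveI : Finite P := finite_of_le_finite hPS
  obtain ⟨-, hfa, -⟩ := of_fullyNormalized p hS F hF hP.2.1
  obtain ⟨-, R, hR⟩ := hfa
  have hInn : IsPGroup p (Inn P) := by
    have hPp : IsPGroup p P := hS.to_le hPS
    intro a
    obtain ⟨b, hb⟩ := a.2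
    obtain ⟨k, hk⟩ := hPp b
    refine ⟨k, ?_⟩
    apply Subtype.ext
    rw [Subgroup.coe_pow, ← hb, ← map_pow, hk, map_one]
    rfl
  obtain ⟨f, hf⟩ : ∃ f : ↥(F.autGroup P) →* MulAut (XQ P), f = (rhoQ P).comp (F.autGroup P).subtype :=
    ⟨_, rfl⟩
  have hfa : ∀ a : ↥(F.autGroup P), f a = rhoQ P (a : MulAut P) := by
    intro a; rw [hf]; rfl
  have hK'p : IsPGroup p (K.comap f) := by
    intro a
    have ha : f (a : ↥(F.autGroup P)) ∈ K := a.2
    obtain ⟨k, hk⟩ := hKp ⟨f a, ha⟩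
    have hk' : (f (a : ↥(F.autGroup P))) ^ (p ^ k) = 1 := congrArg Subtype.val hk
    have h1 : (((a : ↥(F.autGroup P)) : MulAut P)) ^ (p ^ k) ∈ Inn P := by
      apply ker_le_inn hS hP (pow_mem (a : ↥(F.autGroup P)).2 _)
      rw [map_pow, ← hfa]
      exact hk'
    obtain ⟨j, hj⟩ := hInn ⟨_, h1⟩
    have hj' : ((((a : ↥(F.autGroup P)) : MulAut P)) ^ (p ^ k)) ^ (p ^ j) = 1 :=
      congrArg Subtype.val hj
    refine ⟨k + j, ?_⟩
    apply Subtype.ext
    apply Subtype.ext
    rw [pow_add, pow_mul]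
    exact hj'
  obtain ⟨l, hl⟩ := exists_conj_le_sylow R hK'p
  have hmem : ∀ x ∈ K, f l * x * (f l)⁻¹ ∈ TQ S P := by
    intro x hx
    obtain ⟨α, hα, rfl⟩ := hK hx
    have h1 := hl ⟨α, hα⟩ (by
      show f ⟨α, hα⟩ ∈ K
      rw [hfa]
      exact hx)
    rw [hR, Subgroup.mem_subgroupOf] at h1
    refine ⟨_, h1, ?_⟩
    rw [← hfa, map_mul, map_mul, map_inv, hfa ⟨α, hα⟩]
  haveI : Finite (TQ S P) := inferInstance
  have hle : Nat.card K ≤ Nat.card (TQ S P) :=
    Nat.card_le_card_of_injective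
      (fun x : K => (⟨f l * x * (f l)⁻¹, hmem x x.2⟩ : TQ S P)) (by
        intro a b hab
        have h1 : f l * (a : MulAut (XQ P)) * (f l)⁻¹ = f l * (b : MulAut (XQ P)) * (f l)⁻¹ :=
          congrArg Subtype.val hab
        exact Subtype.ext (mul_left_cancel (mul_right_cancel h1)))
  exact hle.trans (card_TQ_le hS hPS hidx)

end Cfsg.Agent.Helper27.R2
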