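import Mathlib
import Cfsg.Agent.Lib.R2.R2Defs

/-!
# R2 farm (S5289), piece R2-TFIX
the fixed points of a nontrivial element of stab H (H of prime index) are exactly H: the fixed points form a subgroup containing H; a subgroup of prime index is maximal; if everything is fixed then u = 1.
-/

set_option autoImplicit false
set_option linter.style.haveILetI false
set_option linter.unusedSectionVars false
set_option linter.unusedVariables false

namespace Cfsg.Agent.Helper27.R2

open Cfsg Cfsg.FusionSystem Cfsg.Agent.Helper25 Cfsg.Agent.Helper26 Cfsg.Agent.Helper3.KL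
open Cfsg.Agent.Helper3.TT Cfsg.Agent.Helper3.SC Cfsg.Agent.Helper3.OL

variable {Ω : Type*} [Group Ω] {S : Subgroup Ω} {x y z : Ω} {p n s : ℕ}


theorem fix_mem_of_stab {X : Type*} [Group X] [Finite X] [Fact p.Prime] (H : Subgroup X)
    (hH : H.index = p) {u : MulAut X} (hu : u ∈ stab H) (hu1 : u ≠ 1) {e : X} (he : u e = e) :
    e ∈ H := by
  have hp : p.Prime := Fact.out
  have hHK : H ≤ MonoidHom.eqLocus u.toMonoidHom (MonoidHom.id X) := fun w hw => hu.1 w hw
  have heK : e ∈ MonoidHom.eqLocus u.toMonoidHom (MonoidHom.id X) := he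
  have hmul := Subgroup.relIndex_mul_index hHK
  rw [hH] at hmul
  have hdvd : (MonoidHom.eqLocus u.toMonoidHom (MonoidHom.id X)).index ∣ p := ⟨_, by rw [← hmul, mul_comm]⟩
  rcases (Nat.dvd_prime hp).1 hdvd with h1 | h1
  · exfalso
    apply hu1
    rw [Subgroup.index_eq_one] at h1
    ext x
    have hx : x ∈ MonoidHom.eqLocus u.toMonoidHom (MonoidHom.id X) := by rw [h1]; trivial
    exact hx
  · rw [h1] at hmul
    have h2 : H.relIndex (MonoidHom.eqLocus u.toMonoidHom (MonoidHom.id X)) = 1 := by
      have hp0 : 0 < p := hp.pos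
      exact Nat.eq_of_mul_eq_mul_right hp0 (by rw [hmul, one_mul])
    exact (Subgroup.relIndex_eq_one.1 h2) heK

end Cfsg.Agent.Helper27.R2
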