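import Mathlib
import Cfsg.Agent.Lib.R2.R2Defs

/-!
# R2 farm (S5289), piece R2-TTRANSV
helper3's transvection hypothesis TT.IsTransv (Lib/Helper3/TwoTransv.lean) from a hyperplane H stabilized by T (compare OL.AE.transv / AE.isTransv in Lib/Helper3/OliverC5.lean): v = g t g^-1 with t in T, t != 1; cm hX t kills H (index p), so its range has order 1 or p, and not 1 as t != 1; the range lies in H (second clause of stab), so t fixes it; conclude with TT.transv_conj.
-/

set_option autoImplicit false
set_option linter.style.haveILetI false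
set_option linter.unusedSectionVars false
set_option linter.unusedVariables false

namespace Cfsg.Agent.Helper27.R2

open Cfsg Cfsg.FusionSystem Cfsg.Agent.Helper25 Cfsg.Agent.Helper26 Cfsg.Agent.Helper3.KL
open Cfsg.Agent.Helper3.TT Cfsg.Agent.Helper3.SC Cfsg.Agent.Helper3.OL

variable {Ω : Type*} [Group Ω] {S : Subgroup Ω} {x y z : Ω} {p n s : ℕ}


theorem isTransv_of_stab {X : Type*} [Group X] [Finite X] (hX : ∀ a b : X, a * b = b * a)
    [Fact p.Prime] (G T : Subgroup (MulAut X)) (H : Subgroup X) (hH : H.index = p)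
    (hTH : T ≤ stab H)
    (hconj : ∀ v ∈ G, v ^ p = 1 → ∃ g ∈ G, ∃ t ∈ T, v = g * t * g⁻¹) : IsTransv hX p G := by
  have hp : p.Prime := Fact.out
  intro v hv hv1 hvp
  obtain ⟨g, -, t, ht, rfl⟩ := hconj v hv hvp
  apply transv_conj
  have ht1 : t ≠ 1 := by
    rintro rfl
    apply hv1
    rw [mul_one, mul_inv_cancel]
  obtain ⟨hst1, hst2⟩ := mem_stab.mp (hTH ht)
  refine ⟨?_, fun e => hst1 _ (hst2 e)⟩
  rw [← Subgroup.index_ker]
  have hle : H ≤ (cm hX t).ker := by
    intro w hw
    rw [MonoidHom.mem_ker, cm_eq_one_iff]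
    exact hst1 w hw
  have h1 := Subgroup.index_dvd_of_le hle
  rw [hH] at h1
  rcases (Nat.dvd_prime hp).mp h1 with h | h
  · exfalso
    apply ht1
    ext e
    have h2 : e ∈ (cm hX t).ker := by
      rw [Subgroup.index_eq_one.mp h]
      trivial
    rw [MonoidHom.mem_ker, cm_eq_one_iff] at h2
    rw [h2]
    rfl
  · exact h

end Cfsg.Agent.Helper27.R2
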