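import Mathlib
import Cfsg.Agent.Lib.R2.R2Defs

/-!
# R2 farm (S5289), piece R2-TORUSALG
the diagonal element of SL2(p) from two transvections (pure algebra in an abelian group X written multiplicatively).  With w1 = u u2 u:  w1 c = c'^-1, w1 c' = c.  With wa = u^a u2^a' u^a:  (u^a) c = c, (u^a) c' = c' c^a, (u2^a') c' = c', (u2^a') c = c c'^(-a');  wa c = c^(1 - a a') c'^(-a') = c'^(-a') (a a' = 1 mod p, c^p = 1),  wa c' = c^a.  delta = wa w1^-1:  delta c = wa c' = c^a,  delta c' = wa (c^-1) = c'^a'.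
-/

set_option autoImplicit false
set_option linter.style.haveILetI false
set_option linter.unusedSectionVars false
set_option linter.unusedVariables false

namespace Cfsg.Agent.Helper27.R2

open Cfsg Cfsg.FusionSystem Cfsg.Agent.Helper25 Cfsg.Agent.Helper26 Cfsg.Agent.Helper3.KL
open Cfsg.Agent.Helper3.TT Cfsg.Agent.Helper3.SC Cfsg.Agent.Helper3.OL

variable {Ω : Type*} [Group Ω] {S : Subgroup Ω} {x y z : Ω} {p n s : ℕ}


theorem torusalg_pow_mod {X : Type*} [Group X] {c : X} (hcp : c ^ p = 1) (k : ℕ) :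
    c ^ k = c ^ (k % p) := by
  conv_lhs => rw [← Nat.div_add_mod k p]
  rw [pow_add, pow_mul, hcp, one_pow, one_mul]

theorem torusalg_pow_modEq {X : Type*} [Group X] {c : X} (hcp : c ^ p = 1) {k l : ℕ}
    (h : k ≡ l [MOD p]) : c ^ k = c ^ l := by
  rw [torusalg_pow_mod hcp k, torusalg_pow_mod hcp l]
  exact congrArg _ h

theorem torusalg_upow {X : Type*} [Group X] (hX : ∀ a b : X, a * b = b * a) {u : MulAut X} {c c' : X}
    (h1 : u c = c) (h2 : u c' = c' * c) (k : ℕ) : (u ^ k) c = c ∧ (u ^ k) c' = c' * c ^ k := by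
  induction k with
  | zero => simp
  | succ k ih =>
    obtain ⟨ih1, ih2⟩ := ih
    constructor
    · rw [pow_succ', MulAut.mul_apply, ih1, h1]
    · rw [pow_succ', MulAut.mul_apply, ih2, map_mul, map_pow, h1, h2, pow_succ', mul_assoc]

theorem torusalg_u2pow {X : Type*} [Group X] (hX : ∀ a b : X, a * b = b * a) {u₂ : MulAut X} {c c' : X}
    (h3 : u₂ c' = c') (h4 : u₂ c = c * c'⁻¹) (k : ℕ) :
    (u₂ ^ k) c' = c' ∧ (u₂ ^ k) c = c * (c' ^ k)⁻¹ := by
  induction k with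
  | zero => simp
  | succ k ih =>
    obtain ⟨ih1, ih2⟩ := ih
    constructor
    · rw [pow_succ', MulAut.mul_apply, ih1, h3]
    · rw [pow_succ', MulAut.mul_apply, ih2, map_mul, map_inv, map_pow, h3, h4, pow_succ', mul_inv_rev,
        mul_assoc, hX (c' ^ k)⁻¹ c'⁻¹]

theorem torus_alg {X : Type*} [Group X] (hX : ∀ a b : X, a * b = b * a) {u u₂ : MulAut X} {c c' : X}
    (hcp : c ^ p = 1) (hc'p : c' ^ p = 1)
    (h1 : u c = c) (h2 : u c' = c' * c) (h3 : u₂ c' = c') (h4 : u₂ c = c * c'⁻¹)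
    (a a' : ℕ) (haa' : a * a' ≡ 1 [MOD p]) :
    (u ^ a * u₂ ^ a' * u ^ a * (u * u₂ * u)⁻¹) c = c ^ a ∧
    (u ^ a * u₂ ^ a' * u ^ a * (u * u₂ * u)⁻¹) c' = c' ^ a' ∧
    ∀ f, u f = f → u₂ f = f → (u ^ a * u₂ ^ a' * u ^ a * (u * u₂ * u)⁻¹) f = f := by
  obtain ⟨ua1, ua2⟩ := torusalg_upow hX h1 h2 a
  obtain ⟨va1, va2⟩ := torusalg_u2pow hX h3 h4 a'
  have hcaa : c ^ (a * a') = c := by
    have := torusalg_pow_modEq hcp haa'
    rwa [pow_one] at this
  have hc'aa : c' ^ (a * a') = c' := by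
    have := torusalg_pow_modEq hc'p haa'
    rwa [pow_one] at this
  -- the Weyl element `w₁ = u u₂ u`
  have hw1c : (u * u₂ * u) c = c'⁻¹ := by
    rw [MulAut.mul_apply, MulAut.mul_apply, h1, h4, map_mul, map_inv, h1, h2, mul_inv_rev,
      ← mul_assoc, mul_inv_cancel, one_mul]
  have hw1c' : (u * u₂ * u) c' = c := by
    rw [MulAut.mul_apply, MulAut.mul_apply, h2, map_mul, h3, h4, map_mul, map_mul, map_inv, h1, h2,
      mul_inv_rev]
    calc c' * c * (c * (c⁻¹ * c'⁻¹)) = c' * c * c'⁻¹ := by group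
      _ = c * c' * c'⁻¹ := by rw [hX c' c]
      _ = c := by group
  have hw1ic : (u * u₂ * u)⁻¹ c = c' := by
    rw [← hw1c', MulAut.inv_apply_self]
  have hw1ic' : (u * u₂ * u)⁻¹ c' = c⁻¹ := by
    have : (u * u₂ * u) c⁻¹ = c' := by rw [map_inv, hw1c, inv_inv]
    rw [← this, MulAut.inv_apply_self]
  -- the element `w_a = u^a u₂^a' u^a`
  have e2 : (c' * c ^ a) ^ a' = c' ^ a' * c := by
    rw [(show Commute c' (c ^ a) from hX _ _).mul_pow, ← pow_mul, hcaa]
  have e3 : c * ((c' * c ^ a) ^ a')⁻¹ = (c' ^ a')⁻¹ := by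
    rw [e2, mul_inv_rev, ← mul_assoc, mul_inv_cancel, one_mul]
  have hwac : (u ^ a * u₂ ^ a' * u ^ a) c = (c' ^ a')⁻¹ := by
    rw [MulAut.mul_apply, MulAut.mul_apply, ua1, va2, map_mul, map_inv, map_pow, ua1, ua2, e3]
  have hwac' : (u ^ a * u₂ ^ a' * u ^ a) c' = c ^ a := by
    rw [MulAut.mul_apply, MulAut.mul_apply, ua2, map_mul, map_pow, va1, va2, map_mul, map_pow,
      map_mul, map_inv, map_pow, ua1, ua2, e3, inv_pow, ← pow_mul, mul_comm a' a, hc'aa,
      hX c' (c ^ a), mul_assoc, mul_inv_cancel, mul_one]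
  refine ⟨?_, ?_, ?_⟩
  · rw [MulAut.mul_apply, hw1ic, hwac']
  · rw [MulAut.mul_apply, hw1ic', map_inv, hwac, inv_inv]
  · intro f hf hf₂
    have hw1f : (u * u₂ * u) f = f := by
      rw [MulAut.mul_apply, MulAut.mul_apply, hf, hf₂, hf]
    have hw1if : (u * u₂ * u)⁻¹ f = f := by
      conv_lhs => rw [← hw1f]
      rw [MulAut.inv_apply_self]
    have hupow : ∀ k : ℕ, (u ^ k) f = f := by
      intro k
      induction k with
      | zero => rfl
      | succ k ih => rw [pow_succ', MulAut.mul_apply, ih, hf]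
    have hu2pow : ∀ k : ℕ, (u₂ ^ k) f = f := by
      intro k
      induction k with
      | zero => rfl
      | succ k ih => rw [pow_succ', MulAut.mul_apply, ih, hf₂]
    rw [MulAut.mul_apply, hw1if, MulAut.mul_apply, MulAut.mul_apply, hupow, hu2pow, hupow]

end Cfsg.Agent.Helper27.R2
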