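import Mathlib
import Cfsg.Agent.Lib.R2.R2Defs
import Cfsg.Agent.Lib.R2.R2TorusAlg

/-!
# R2 farm (S5289), piece R2-TORUSCONJ
delta normalizes <u>:  delta u delta^-1 = u^(a*a).  Check on the generators f (fixed by u, u2), c, c' using hdec and torus_alg:  delta^-1 c = c^a', delta^-1 c' = c'^a (apply delta and use a a' = 1 mod p, c^p = c'^p = 1);  delta u delta^-1 c = c, delta u delta^-1 c' = delta (c'^a c^a) = c' c^(a a) = u^(a a) c'.
-/

set_option autoImplicit false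
set_option linter.style.haveILetI false
set_option linter.unusedSectionVars false
set_option linter.unusedVariables false

namespace Cfsg.Agent.Helper27.R2

open Cfsg Cfsg.FusionSystem Cfsg.Agent.Helper25 Cfsg.Agent.Helper26 Cfsg.Agent.Helper3.KL
open Cfsg.Agent.Helper3.TT Cfsg.Agent.Helper3.SC Cfsg.Agent.Helper3.OL

variable {Ω : Type*} [Group Ω] {S : Subgroup Ω} {x y z : Ω} {p n s : ℕ}


theorem r2torusconj_pow_modEq {X : Type*} [Group X] {c : X} (hcp : c ^ p = 1) {m : ℕ}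
    (hm : m ≡ 1 [MOD p]) : c ^ m = c := by
  rw [pow_eq_pow_mod m hcp, hm, ← pow_eq_pow_mod 1 hcp, pow_one]

theorem torus_conj {X : Type*} [Group X] (hX : ∀ a b : X, a * b = b * a) {u u₂ : MulAut X} {c c' : X}
    (hcp : c ^ p = 1) (hc'p : c' ^ p = 1)
    (h1 : u c = c) (h2 : u c' = c' * c) (h3 : u₂ c' = c') (h4 : u₂ c = c * c'⁻¹)
    (hdec : ∀ e, ∃ (f : X) (i j : ℤ), e = f * c ^ i * c' ^ j ∧ u f = f ∧ u₂ f = f)
    (a a' : ℕ) (haa' : a * a' ≡ 1 [MOD p]) :
    (u ^ a * u₂ ^ a' * u ^ a * (u * u₂ * u)⁻¹) * u * (u ^ a * u₂ ^ a' * u ^ a * (u * u₂ * u)⁻¹)⁻¹ =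
      u ^ (a * a) := by
  obtain ⟨hδc, hδc', hδf⟩ := torus_alg (p := p) hX hcp hc'p h1 h2 h3 h4 a a' haa'
  set δ : MulAut X := u ^ a * u₂ ^ a' * u ^ a * (u * u₂ * u)⁻¹ with hδ
  -- powers of `u`
  have hupc : ∀ k : ℕ, (u ^ k) c = c := by
    intro k
    induction k with
    | zero => simp
    | succ k ih => rw [pow_succ, MulAut.mul_apply, h1, ih]
  have hupc' : ∀ k : ℕ, (u ^ k) c' = c' * c ^ k := by
    intro k
    induction k with
    | zero => simp
    | succ k ih =>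
      rw [pow_succ, MulAut.mul_apply, h2, map_mul, ih, hupc, pow_succ, mul_assoc]
  have hupf : ∀ (k : ℕ) (f : X), u f = f → (u ^ k) f = f := by
    intro k f hf
    induction k with
    | zero => simp
    | succ k ih => rw [pow_succ, MulAut.mul_apply, hf, ih]
  -- inverse of `δ`
  have hδic : δ⁻¹ c = c ^ a' := by
    have : δ (c ^ a') = c := by
      rw [map_pow, hδc, ← pow_mul]
      exact r2torusconj_pow_modEq hcp haa'
    calc δ⁻¹ c = δ⁻¹ (δ (c ^ a')) := by rw [this]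
      _ = c ^ a' := MulAut.inv_apply_self _ _ _
  have hδic' : δ⁻¹ c' = c' ^ a := by
    have : δ (c' ^ a) = c' := by
      rw [map_pow, hδc', ← pow_mul, mul_comm]
      exact r2torusconj_pow_modEq hc'p haa'
    calc δ⁻¹ c' = δ⁻¹ (δ (c' ^ a)) := by rw [this]
      _ = c' ^ a := MulAut.inv_apply_self _ _ _
  have hδif : ∀ f, u f = f → u₂ f = f → δ⁻¹ f = f := by
    intro f hf1 hf2
    have := hδf f hf1 hf2
    calc δ⁻¹ f = δ⁻¹ (δ f) := by rw [this]
      _ = f := MulAut.inv_apply_self _ _ _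
  -- the three values
  have hLc : (δ * u * δ⁻¹) c = (u ^ (a * a)) c := by
    rw [MulAut.mul_apply, MulAut.mul_apply, hδic, map_pow, h1, map_pow, hδc, ← pow_mul, hupc]
    exact r2torusconj_pow_modEq hcp haa'
  have hLc' : (δ * u * δ⁻¹) c' = (u ^ (a * a)) c' := by
    have hcomm : Commute (c' ^ a') (c ^ a) := hX _ _
    rw [MulAut.mul_apply, MulAut.mul_apply, hδic', map_pow, h2, map_pow, map_mul, hδc', hδc,
      hupc', hcomm.mul_pow, ← pow_mul, mul_comm a' a, r2torusconj_pow_modEq hc'p haa', ← pow_mul]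
  have hLf : ∀ f, u f = f → u₂ f = f → (δ * u * δ⁻¹) f = (u ^ (a * a)) f := by
    intro f hf1 hf2
    rw [MulAut.mul_apply, MulAut.mul_apply, hδif f hf1 hf2, hf1, hδf f hf1 hf2, hupf _ f hf1]
  ext e
  obtain ⟨f, i, j, rfl, hf1, hf2⟩ := hdec e
  rw [map_mul, map_mul, map_zpow, map_zpow, map_mul, map_mul, map_zpow, map_zpow,
    hLc, hLc', hLf f hf1 hf2]

end Cfsg.Agent.Helper27.R2
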