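import Mathlib
import Cfsg.Agent.Lib.R2.R2Defs
import Cfsg.Agent.Lib.R2.R2TorusAlg
import Cfsg.Agent.Lib.R2.R2TorusConj
import Cfsg.Agent.Lib.R2.R2TTransv
import Cfsg.Agent.Lib.R2.R2TFix

/-!
# R2 farm (S5289), piece R2-TMAIN
abstract torus theorem.  T has order p: T = zpowers u for any u in T, u != 1 (u^p = 1).  From hnn get g in G with u' = g u g^-1 not in T; u not in zpowers u' (orders).  IsTransv by isTransv_of_stab; TT.exists_decomp gives u2 in zpowers u' <= G, c, c' and the decomposition.  delta := u^a u2^a' u^a (u u2 u)^-1 is in G; it normalizes T by torus_conj; for e = f c^i c'^j: delta e = f c^(a i) c'^(a' j) (torus_alg), so delta e (e^a')^-1 = f^(1-a') c^(a i - a' i) is fixed by u, hence in H by fix_mem_of_stab.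
-/

set_option autoImplicit false
set_option linter.style.haveILetI false
set_option linter.unusedSectionVars false
set_option linter.unusedVariables false

namespace Cfsg.Agent.Helper27.R2

open Cfsg Cfsg.FusionSystem Cfsg.Agent.Helper25 Cfsg.Agent.Helper26 Cfsg.Agent.Helper3.KL
open Cfsg.Agent.Helper3.TT Cfsg.Agent.Helper3.SC Cfsg.Agent.Helper3.OL

variable {Ω : Type*} [Group Ω] {S : Subgroup Ω} {x y z : Ω} {p n s : ℕ}


theorem torus_main {X : Type*} [Group X] [Finite X] (hX : ∀ a b : X, a * b = b * a) [Fact p.Prime]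
    (G T : Subgroup (MulAut X)) (hTG : T ≤ G) (hSyl : SmallSylow p G)
    (H : Subgroup X) (hH : H.index = p) (hTH : T ≤ stab H) (hTcard : Nat.card T = p)
    (hconj : ∀ v ∈ G, v ^ p = 1 → ∃ g ∈ G, ∃ t ∈ T, v = g * t * g⁻¹)
    (hnn : ∃ g ∈ G, ∃ t ∈ T, g * t * g⁻¹ ∉ T) (a a' : ℕ) (haa' : a * a' ≡ 1 [MOD p]) :
    ∃ δ ∈ G, (∀ t ∈ T, δ * t * δ⁻¹ ∈ T) ∧ ∀ e : X, δ e * (e ^ a')⁻¹ ∈ H := by
  have hp : p.Prime := Fact.out
  obtain ⟨g, hgG, u, huT, hgu⟩ := hnn
  have huG : u ∈ G := hTG huT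
  have hu1 : u ≠ 1 := by
    rintro rfl
    apply hgu
    rw [mul_one, mul_inv_cancel]
    exact T.one_mem
  have hup : u ^ p = 1 := pow_eq_one_of_card T hTcard huT
  have hu'G : g * u * g⁻¹ ∈ G := G.mul_mem (G.mul_mem hgG huG) (G.inv_mem hgG)
  have hu'p : (g * u * g⁻¹) ^ p = 1 := by
    rw [conj_pow, hup, mul_one, mul_inv_cancel]
  have hu'1 : g * u * g⁻¹ ≠ 1 := by
    intro h
    apply hgu
    rw [h]; exact T.one_mem
  have hzT : Subgroup.zpowers u ≤ T := Subgroup.zpowers_le.mpr huT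
  have hne : g * u * g⁻¹ ∉ Subgroup.zpowers u := fun h => hgu (hzT h)
  have hne' : u ∉ Subgroup.zpowers (g * u * g⁻¹) := by
    intro h
    have hle : Subgroup.zpowers u ≤ Subgroup.zpowers (g * u * g⁻¹) := Subgroup.zpowers_le.mpr h
    have hc1 : Nat.card (Subgroup.zpowers u) = p := by
      rw [Nat.card_zpowers]; exact orderOf_eq_prime hup hu1
    have hc2 : Nat.card (Subgroup.zpowers (g * u * g⁻¹)) = p := by
      rw [Nat.card_zpowers]; exact orderOf_eq_prime hu'p hu'1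
    have heq : Subgroup.zpowers u = Subgroup.zpowers (g * u * g⁻¹) :=
      Subgroup.eq_of_le_of_card_ge hle (by rw [hc1, hc2])
    apply hne
    rw [heq]
    exact Subgroup.mem_zpowers _
  have hTr : IsTransv hX p G := isTransv_of_stab hX G T H hH hTH hconj
  obtain ⟨u₂, c, c', hu₂z, -, -, hcp, hc'p, -, -, -, -, h1, h2, h3, h4, hdec⟩ :=
    exists_decomp hX G hTr hSyl huG hu'G hu1 hu'1 hup hu'p hne hne'
  have hu₂G : u₂ ∈ G := (Subgroup.zpowers_le.mpr hu'G) hu₂z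
  obtain ⟨hδc, hδc', hδf⟩ := torus_alg (p := p) hX hcp hc'p h1 h2 h3 h4 a a' haa'
  have hδconj := torus_conj (p := p) hX hcp hc'p h1 h2 h3 h4 hdec a a' haa'
  refine ⟨u ^ a * u₂ ^ a' * u ^ a * (u * u₂ * u)⁻¹, ?_, ?_, ?_⟩
  · exact G.mul_mem (G.mul_mem (G.mul_mem (G.pow_mem huG a) (G.pow_mem hu₂G a')) (G.pow_mem huG a))
      (G.inv_mem (G.mul_mem (G.mul_mem huG hu₂G) huG))
  · intro t ht
    obtain ⟨k, rfl⟩ := exists_zpow_of_card_prime T hTcard huT hu1 ht
    rw [← conj_zpow, hδconj]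
    exact T.zpow_mem (T.pow_mem huT _) k
  · intro e
    obtain ⟨f, i, j, rfl, huf, hu₂f⟩ := hdec e
    apply fix_mem_of_stab H hH (hTH huT) hu1
    -- the action of `u` on `f * c ^ I * c' ^ J`
    have hue : ∀ (I J : ℤ), u (f * c ^ I * c' ^ J) = (f * c ^ I * c' ^ J) * c ^ J := by
      intro I J
      rw [map_mul, map_mul, map_zpow, map_zpow, huf, h1, h2, (show Commute c' c from hX c' c).mul_zpow,
        ← mul_assoc]
    have hδe : (u ^ a * u₂ ^ a' * u ^ a * (u * u₂ * u)⁻¹) (f * c ^ i * c' ^ j) =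
        f * c ^ ((a : ℤ) * i) * c' ^ ((a' : ℤ) * j) := by
      rw [map_mul, map_mul, map_zpow, map_zpow, hδc, hδc', hδf f huf hu₂f, ← zpow_natCast c a,
        ← zpow_natCast c' a', ← zpow_mul, ← zpow_mul]
    rw [hδe, map_mul, map_inv, map_pow, hue, hue,
      (show Commute (f * c ^ i * c' ^ j) (c ^ j) from hX _ _).mul_pow, mul_inv_rev]
    have e1 : (c ^ j) ^ a' = c ^ ((a' : ℤ) * j) := by
      rw [← zpow_natCast, ← zpow_mul, mul_comm]
    rw [e1]
    group

end Cfsg.Agent.Helper27.R2
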