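import Mathlib
import Cfsg.Agent.Lib.R2.R2Defs
import Cfsg.Agent.Lib.R2.R2BrDefs
import Cfsg.Agent.Lib.R2.R2BrKer
import Cfsg.Agent.Lib.R2.R2BrT
import Cfsg.Agent.Lib.R2.R2BrSyl
import Cfsg.Agent.Lib.R2.R2BrConj
import Cfsg.Agent.Lib.R2.R2BrCard
import Cfsg.Agent.Lib.R2.R2BrLiftN
import Cfsg.Agent.Lib.R2.R2BrNN
import Cfsg.Agent.Lib.R2.R2BrH
import Cfsg.Agent.Lib.R2.R2BrLiftA
import Cfsg.Agent.Lib.R2.R2TMain

/-!
# R2 farm (S5289), piece R2-BRMAIN
the torus automorphism of an essential P not inside A (assembly).  Apply torus_main to X = XQ P (Finite; commutative by XQ_comm), G = GQ F P, T = TQ S P (TQ_le_GQ), H = HQ A P, with smallSylow_GQ, HQ_index, TQ_le_stab, card_TQ, conj_GQ, not_normal_TQ and a' = 2, a = (p+1)/2 (p odd since p >= 5 is prime: a * 2 = p + 1 = 1 mod p).  The resulting element of GQ F P is rhoQ P delta with delta in Aut_F(P) (Subgroup.mem_map); conclude with lift_norm and lift_act.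
-/

set_option autoImplicit false
set_option linter.style.haveILetI false
set_option linter.unusedSectionVars false
set_option linter.unusedVariables false

namespace Cfsg.Agent.Helper27.R2

open Cfsg Cfsg.FusionSystem Cfsg.Agent.Helper25 Cfsg.Agent.Helper26 Cfsg.Agent.Helper3.KL
open Cfsg.Agent.Helper3.TT Cfsg.Agent.Helper3.SC Cfsg.Agent.Helper3.OL

variable {Ω : Type*} [Group Ω] {S : Subgroup Ω} {x y z : Ω} {p n s : ℕ}


theorem exists_torus_aut [Finite S] [Fact p.Prime] {F : FusionSystem S} {A P : Subgroup Ω}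
    (hp5 : 5 ≤ p) (hS : IsPGroup p S) (hF : F.IsSaturated p) (D : OD p S A)
    (hP : F.IsEssential p P) (hPA : ¬ P ≤ A) (hidx : P.relIndex (normalizerIn S P) = p) :
    ∃ δ ∈ F.autGroup P, (∀ β ∈ autInducedBy S P, δ * β * δ⁻¹ ∈ autInducedBy S P) ∧
      ∀ e : P, ((e : Ω) ^ 2)⁻¹ * ((δ e : P) : Ω) ∈ A := by
  have hPS : P ≤ S := hP.1.1
  haveI : Finite P := finite_of_le_finite hPS
  have hpp : p.Prime := Fact.out
  have hodd : p % 2 = 1 := by
    rcases hpp.eq_two_or_odd with h | h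
    · omega
    · exact h
  have haa' : (p + 1) / 2 * 2 ≡ 1 [MOD p] := by
    have h2 : (p + 1) / 2 * 2 = p + 1 := by omega
    rw [h2]
    unfold Nat.ModEq
    rw [Nat.add_mod_left]
  obtain ⟨δ', hδ'G, hδ'T, hδ'H⟩ := torus_main (p := p) (X := XQ P) (XQ_comm hS hPS)
    (GQ F P) (TQ S P) (TQ_le_GQ F hPS) (smallSylow_GQ hS hF hP hidx) (HQ A P)
    (HQ_index D hPS hPA) (TQ_le_stab D hPS hPA) (card_TQ hS hF hP hidx)
    (conj_GQ hS hF hP) (not_normal_TQ hS hF hP) ((p + 1) / 2) 2 haa'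
  obtain ⟨δ, hδ, rfl⟩ := Subgroup.mem_map.mp hδ'G
  exact ⟨δ, hδ, lift_norm hS hP hδ hδ'T, lift_act D hPS hPA hδ'H⟩

end Cfsg.Agent.Helper27.R2
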