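import Mathlib
import Cfsg.Agent.Lib.R2.R2Defs

/-!
# R2 farm (S5289), piece R2-CCOMM
C(p,n): z is central and all commutators lie in <w>, w = z^(p^(n-3)).  Hint: closure induction (twice) over the generators x,y,z; <w> is central.
-/

set_option autoImplicit false
set_option linter.style.haveILetI false
set_option linter.unusedSectionVars false
set_option linter.unusedVariables false

namespace Cfsg.Agent.Helper27.R2

open Cfsg Cfsg.FusionSystem Cfsg.Agent.Helper25 Cfsg.Agent.Helper26 Cfsg.Agent.Helper3.KL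
open Cfsg.Agent.Helper3.TT Cfsg.Agent.Helper3.SC Cfsg.Agent.Helper3.OL

variable {Ω : Type*} [Group Ω] {S : Subgroup Ω} {x y z : Ω} {p n s : ℕ}


theorem CD.z_central (D : CD p n S x y z) : ∀ g ∈ S, g * z = z * g := by
  have hle : S ≤ Subgroup.centralizer ({z} : Set Ω) := by
    rw [← D.gen, Subgroup.closure_le]
    rintro g (rfl | rfl | rfl)
    · rw [SetLike.mem_coe, Subgroup.mem_centralizer_iff]
      rintro h rfl
      exact D.xz.symm
    · rw [SetLike.mem_coe, Subgroup.mem_centralizer_iff]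
      rintro h rfl
      exact D.yz.symm
    · rw [SetLike.mem_coe, Subgroup.mem_centralizer_iff]
      rintro h rfl
      rfl
  intro g hg
  have h1 := hle hg
  rw [Subgroup.mem_centralizer_iff] at h1
  exact (h1 z rfl).symm

/-- `⟨w⟩` is central in `S`. -/
theorem r2ccomm_w_central (D : CD p n S x y z) :
    ∀ g ∈ S, ∀ v ∈ Subgroup.zpowers (ww p n z), g * v = v * g := by
  intro g hg v hv
  obtain ⟨k, rfl⟩ := Subgroup.mem_zpowers_iff.mp hv
  have h1 : Commute g z := D.z_central g hg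
  have h2 : Commute g (ww p n z) := h1.pow_right _
  exact (h2.zpow_right k)

theorem r2ccomm_symm (W : Subgroup Ω) {a b : Ω} (h : a * b * a⁻¹ * b⁻¹ ∈ W) :
    b * a * b⁻¹ * a⁻¹ ∈ W := by
  have e : b * a * b⁻¹ * a⁻¹ = (a * b * a⁻¹ * b⁻¹)⁻¹ := by group
  rw [e]; exact W.inv_mem h

/-- for fixed `b`, the `a ∈ S` with `[a,b] ∈ W` form a subgroup, when `W` is central in `S` -/
def r2ccommK (S W : Subgroup Ω) (hc : ∀ g ∈ S, ∀ v ∈ W, g * v = v * g) (b : Ω) : Subgroup Ω where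
  carrier := {a | a ∈ S ∧ a * b * a⁻¹ * b⁻¹ ∈ W}
  one_mem' := by
    refine ⟨S.one_mem, ?_⟩
    have e : (1 : Ω) * b * 1⁻¹ * b⁻¹ = 1 := by group
    rw [e]; exact W.one_mem
  mul_mem' := by
    rintro a1 a2 ⟨h1S, h1⟩ ⟨h2S, h2⟩
    refine ⟨S.mul_mem h1S h2S, ?_⟩
    have e : a1 * a2 * b * (a1 * a2)⁻¹ * b⁻¹ =
        (a1 * (a2 * b * a2⁻¹ * b⁻¹)) * a1⁻¹ * (a1 * b * a1⁻¹ * b⁻¹) := by group
    rw [e, hc a1 h1S _ h2, mul_inv_cancel_right]
    exact W.mul_mem h2 h1
  inv_mem' := by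
    rintro a ⟨hS, h⟩
    refine ⟨S.inv_mem hS, ?_⟩
    have e : a⁻¹ * b * a⁻¹⁻¹ * b⁻¹ = (a⁻¹ * (a * b * a⁻¹ * b⁻¹)⁻¹) * a := by group
    rw [e, hc a⁻¹ (S.inv_mem hS) _ (W.inv_mem h), inv_mul_cancel_right]
    exact W.inv_mem h

theorem r2ccomm_yx (D : CD p n S x y z) :
    y * x * y⁻¹ * x⁻¹ ∈ Subgroup.zpowers (ww p n z) := by
  have hw : ww p n z ∈ Subgroup.zpowers (ww p n z) := Subgroup.mem_zpowers _
  have hyw : y * ww p n z = ww p n z * y := r2ccomm_w_central D y D.y_mem _ hw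
  have hxw : x * ww p n z = ww p n z * x := r2ccomm_w_central D x D.x_mem _ hw
  have hxy : x⁻¹ * y * x = y * ww p n z := D.xy
  have e1 : y * x * y⁻¹ * x⁻¹ = x * (x⁻¹ * y * x) * y⁻¹ * x⁻¹ := by group
  have e2 : x * (ww p n z * y) * y⁻¹ * x⁻¹ = x * ww p n z * x⁻¹ := by group
  rw [e1, hxy, hyw, e2, hxw, mul_inv_cancel_right]
  exact hw

theorem CD.comm_mem (D : CD p n S x y z) :
    ∀ a ∈ S, ∀ b ∈ S, a * b * a⁻¹ * b⁻¹ ∈ Subgroup.zpowers (ww p n z) := by
  have hc := r2ccomm_w_central D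
  -- `z` commutes with everything in `S`
  have hzl : ∀ g ∈ S, z * g * z⁻¹ * g⁻¹ ∈ Subgroup.zpowers (ww p n z) := by
    intro g hg
    have h1 : z * g = g * z := (D.z_central g hg).symm
    have e : z * g * z⁻¹ * g⁻¹ = 1 := by rw [h1]; group
    rw [e]; exact Subgroup.one_mem _
  have hself : ∀ g : Ω, g * g * g⁻¹ * g⁻¹ ∈ Subgroup.zpowers (ww p n z) := by
    intro g
    have e : g * g * g⁻¹ * g⁻¹ = 1 := by group
    rw [e]; exact Subgroup.one_mem _
  have hyx := r2ccomm_yx D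
  have hxy := r2ccomm_symm _ hyx
  -- step 1: generators in the second slot
  have hgen : ∀ g : Ω, g = x ∨ g = y ∨ g = z → ∀ a ∈ S,
      a * g * a⁻¹ * g⁻¹ ∈ Subgroup.zpowers (ww p n z) := by
    intro g hg a ha
    have hle : Subgroup.closure ({x, y, z} : Set Ω) ≤
        r2ccommK S (Subgroup.zpowers (ww p n z)) hc g := by
      rw [Subgroup.closure_le]
      rintro h (rfl | rfl | rfl)
      · refine ⟨D.x_mem, ?_⟩
        rcases hg with rfl | rfl | rfl
        · exact hself _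
        · exact hxy
        · exact r2ccomm_symm _ (hzl _ D.x_mem)
      · refine ⟨D.y_mem, ?_⟩
        rcases hg with rfl | rfl | rfl
        · exact hyx
        · exact hself _
        · exact r2ccomm_symm _ (hzl _ D.y_mem)
      · refine ⟨D.z_mem, ?_⟩
        rcases hg with rfl | rfl | rfl
        · exact hzl _ D.x_mem
        · exact hzl _ D.y_mem
        · exact hself _
    exact (hle (by rw [D.gen]; exact ha)).2
  -- step 2: arbitrary `b`
  intro a ha b hb
  have hle : Subgroup.closure ({x, y, z} : Set Ω) ≤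
      r2ccommK S (Subgroup.zpowers (ww p n z)) hc b := by
    rw [Subgroup.closure_le]
    rintro h (rfl | rfl | rfl)
    · exact ⟨D.x_mem, r2ccomm_symm _ (hgen _ (Or.inl rfl) b hb)⟩
    · exact ⟨D.y_mem, r2ccomm_symm _ (hgen _ (Or.inr (Or.inl rfl)) b hb)⟩
    · exact ⟨D.z_mem, r2ccomm_symm _ (hgen _ (Or.inr (Or.inr rfl)) b hb)⟩
  exact (hle (by rw [D.gen]; exact ha)).2

end Cfsg.Agent.Helper27.R2
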