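import Mathlib
import Cfsg.Agent.Lib.R2.R2Defs
import Cfsg.Agent.Lib.R2.R2CComm

/-!
# R2 farm (S5289), piece R2-CEXP
C(p,3) has exponent p (p odd): n = 3 so ww p n z = z^(p^0) = z, z^p = 1 (D.zp with n-2 = 1), z central, commutators in <z>; class 2 and p odd give (ab)^p = a^p b^p [b,a]^(p(p-1)/2) = a^p b^p; so all g^p = 1 by closure induction; S is nontrivial (card p^3), so the exponent is exactly p.
-/

set_option autoImplicit false
set_option linter.style.haveILetI false
set_option linter.unusedSectionVars false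
set_option linter.unusedVariables false

namespace Cfsg.Agent.Helper27.R2

open Cfsg Cfsg.FusionSystem Cfsg.Agent.Helper25 Cfsg.Agent.Helper26 Cfsg.Agent.Helper3.KL
open Cfsg.Agent.Helper3.TT Cfsg.Agent.Helper3.SC Cfsg.Agent.Helper3.OL

variable {Ω : Type*} [Group Ω] {S : Subgroup Ω} {x y z : Ω} {p n s : ℕ}


/-- class two power formula -/
theorem r2cexp_mul_pow {X : Type*} [Group X] (v a w : X) (hav : a * v = w * v * a)
    (hwv : Commute w v) (hwa : Commute w a) (n : ℕ) :
    (v * a) ^ n = w ^ (n.choose 2) * v ^ n * a ^ n := by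
  have hsub : ∀ m : ℕ, a ^ m * v = w ^ m * v * a ^ m := by
    intro m
    induction m with
    | zero => simp
    | succ m ih =>
      have hc : Commute (a ^ m) w := (hwa.symm).pow_left m
      calc a ^ (m + 1) * v = a ^ m * (a * v) := by rw [pow_succ, mul_assoc]
        _ = a ^ m * (w * v * a) := by rw [hav]
        _ = (a ^ m * w) * v * a := by simp only [mul_assoc]
        _ = (w * a ^ m) * v * a := by rw [hc.eq]
        _ = w * (a ^ m * v) * a := by simp only [mul_assoc]
        _ = w * (w ^ m * v * a ^ m) * a := by rw [ih]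
        _ = w ^ (m + 1) * v * a ^ (m + 1) := by rw [pow_succ' w, pow_succ a]; simp only [mul_assoc]
  induction n with
  | zero => simp
  | succ n ih =>
    have hc1 : Commute (v ^ n) (w ^ n) := ((hwv.symm).pow_pow n n)
    calc (v * a) ^ (n + 1) = (v * a) ^ n * (v * a) := pow_succ _ _
      _ = w ^ (n.choose 2) * v ^ n * a ^ n * (v * a) := by rw [ih]
      _ = w ^ (n.choose 2) * v ^ n * (a ^ n * v) * a := by simp only [mul_assoc]
      _ = w ^ (n.choose 2) * v ^ n * (w ^ n * v * a ^ n) * a := by rw [hsub]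
      _ = w ^ (n.choose 2) * (v ^ n * w ^ n) * v * a ^ n * a := by simp only [mul_assoc]
      _ = w ^ (n.choose 2) * (w ^ n * v ^ n) * v * a ^ n * a := by rw [hc1.eq]
      _ = (w ^ (n.choose 2) * w ^ n) * (v ^ n * v) * (a ^ n * a) := by simp only [mul_assoc]
      _ = w ^ ((n + 1).choose 2) * v ^ (n + 1) * a ^ (n + 1) := by
        rw [← pow_add, ← pow_succ, ← pow_succ]
        congr 3
        rw [Nat.choose_succ_succ' n 1, Nat.choose_one_right, add_comm]

theorem CD.r2cexp_pow_eq_one [Fact p.Prime] (D : CD p n S x y z) (hn3 : n = 3) (hp2 : p ≠ 2) :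
    ∀ g ∈ S, g ^ p = 1 := by
  have hp : p.Prime := Fact.out
  have hzp : z ^ p = 1 := by
    have := D.zp
    rw [hn3] at this
    simpa using this
  have hww : ww p n z = z := by
    unfold ww
    rw [hn3]
    simp
  have hchoose : p ∣ p.choose 2 := by
    apply hp.dvd_choose_self (by norm_num)
    have := hp.two_le
    omega
  have hmul : ∀ a ∈ S, ∀ b ∈ S, a ^ p = 1 → b ^ p = 1 → (a * b) ^ p = 1 := by
    intro a ha b hb hap hbp
    have hw := D.comm_mem b hb a ha
    rw [hww] at hw
    obtain ⟨k, hk⟩ := Subgroup.mem_zpowers_iff.1 hw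
    have hza : Commute z a := (D.z_central a ha).symm
    have hzb : Commute z b := (D.z_central b hb).symm
    have hwa : Commute (b * a * b⁻¹ * a⁻¹) a := by rw [← hk]; exact hza.zpow_left k
    have hwb : Commute (b * a * b⁻¹ * a⁻¹) b := by rw [← hk]; exact hzb.zpow_left k
    have hwp : (b * a * b⁻¹ * a⁻¹) ^ p = 1 := by
      rw [← hk, ← zpow_natCast, ← zpow_mul, mul_comm, zpow_mul, zpow_natCast, hzp, one_zpow]
    have hav : b * a = (b * a * b⁻¹ * a⁻¹) * a * b := by group
    rw [r2cexp_mul_pow a b _ hav hwa hwb p, hap, hbp, mul_one, mul_one]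
    obtain ⟨t, ht⟩ := hchoose
    rw [ht, pow_mul, hwp, one_pow]
  intro g hg
  rw [← D.gen] at hg
  induction hg using Subgroup.closure_induction with
  | mem g hg =>
    rcases hg with rfl | rfl | rfl
    · exact D.xp
    · exact D.yp
    · exact hzp
  | one => exact one_pow p
  | mul a b ha hb iha ihb =>
    rw [D.gen] at ha hb
    exact hmul a ha b hb iha ihb
  | inv a ha iha => rw [inv_pow, iha, inv_one]

theorem CD.exp_three [Finite S] [Fact p.Prime] (D : CD p n S x y z) (hn3 : n = 3) (hp2 : p ≠ 2) :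
    Monoid.exponent ↥S = p := by
  have hp : p.Prime := Fact.out
  have hdvd : Monoid.exponent ↥S ∣ p := by
    apply Monoid.exponent_dvd_of_forall_pow_eq_one
    intro g
    apply Subtype.ext
    rw [Subgroup.coe_pow, Subgroup.coe_one]
    exact D.r2cexp_pow_eq_one hn3 hp2 g g.2
  rcases (Nat.dvd_prime hp).1 hdvd with h1 | h1
  · exfalso
    rw [Monoid.exp_eq_one_iff] at h1
    have hc : Nat.card ↥S = 1 := Nat.card_eq_one_iff_unique.2 ⟨h1, ⟨1⟩⟩
    rw [D.card, hn3] at hc
    have := hp.two_le
    have h8 : 2 ^ 3 ≤ p ^ 3 := Nat.pow_le_pow_left this 3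
    omega
  · exact h1

end Cfsg.Agent.Helper27.R2
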