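import Mathlib
import Cfsg.Agent.Lib.R2.R2Defs
import Cfsg.Agent.Lib.R2.R2CComm

/-!
# R2 farm (S5289), piece R2-CPOW
C(p,n): p-th powers lie in <z>.  Hint: <z> is central, S/<z> is abelian (CD.comm_mem, <w> <= <z>) and generated by elements of order dividing p; e.g. closure induction with the predicate `g^p in <z>` using that modulo the central subgroup <z> one has (ab)^p = a^p b^p; or work in the quotient of S by (zpowers z).subgroupOf S.
-/

set_option autoImplicit false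
set_option linter.style.haveILetI false
set_option linter.unusedSectionVars false
set_option linter.unusedVariables false

namespace Cfsg.Agent.Helper27.R2

open Cfsg Cfsg.FusionSystem Cfsg.Agent.Helper25 Cfsg.Agent.Helper26 Cfsg.Agent.Helper3.KL
open Cfsg.Agent.Helper3.TT Cfsg.Agent.Helper3.SC Cfsg.Agent.Helper3.OL

variable {Ω : Type*} [Group Ω] {S : Subgroup Ω} {x y z : Ω} {p n s : ℕ}


theorem r2cpow_central (D : CD p n S x y z) {g c : Ω} (hg : g ∈ S)
    (hc : c ∈ Subgroup.zpowers z) : g * c = c * g := by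
  obtain ⟨m, rfl⟩ := Subgroup.mem_zpowers_iff.1 hc
  have h : Commute g z := D.z_central g hg
  exact (h.zpow_right m)

theorem r2cpow_ww_le : Subgroup.zpowers (ww p n z) ≤ Subgroup.zpowers z := by
  rw [Subgroup.zpowers_le]
  exact Subgroup.pow_mem _ (Subgroup.mem_zpowers z) _

theorem r2cpow_mul_pow (D : CD p n S x y z) {a b : Ω} (ha : a ∈ S) (hb : b ∈ S) (k : ℕ) :
    ∃ c ∈ Subgroup.zpowers z, (a * b) ^ k = a ^ k * b ^ k * c := by
  induction k with
  | zero => exact ⟨1, Subgroup.one_mem _, by simp⟩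
  | succ k ih =>
    obtain ⟨c, hc, hk⟩ := ih
    have hd : b⁻¹ * (a ^ k)⁻¹ * b * a ^ k ∈ Subgroup.zpowers z := by
      have := D.comm_mem b⁻¹ (S.inv_mem hb) (a ^ k)⁻¹ (S.inv_mem (S.pow_mem ha k))
      rw [inv_inv, inv_inv] at this
      exact r2cpow_ww_le this
    refine ⟨b⁻¹ * (a ^ k)⁻¹ * b * a ^ k * c, Subgroup.mul_mem _ hd hc, ?_⟩
    rw [pow_succ', hk]
    have hcomm : b ^ k * (b⁻¹ * (a ^ k)⁻¹ * b * a ^ k) = (b⁻¹ * (a ^ k)⁻¹ * b * a ^ k) * b ^ k :=
      r2cpow_central D (S.pow_mem hb k) hd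
    rw [pow_succ' a k, pow_succ' b k]
    calc a * b * (a ^ k * b ^ k * c)
        = a * (a ^ k * b * (b⁻¹ * (a ^ k)⁻¹ * b * a ^ k)) * b ^ k * c := by group
      _ = a * a ^ k * b * ((b⁻¹ * (a ^ k)⁻¹ * b * a ^ k) * b ^ k) * c := by simp only [mul_assoc]
      _ = a * a ^ k * b * (b ^ k * (b⁻¹ * (a ^ k)⁻¹ * b * a ^ k)) * c := by rw [hcomm]
      _ = a * a ^ k * (b * b ^ k) * (b⁻¹ * (a ^ k)⁻¹ * b * a ^ k * c) := by simp only [mul_assoc]

theorem CD.pow_mem [Fact p.Prime] (D : CD p n S x y z) : ∀ g ∈ S, g ^ p ∈ Subgroup.zpowers z := by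
  have key : ∀ g ∈ Subgroup.closure ({x, y, z} : Set Ω), g ∈ S ∧ g ^ p ∈ Subgroup.zpowers z := by
    intro g hg
    induction hg using Subgroup.closure_induction with
    | mem g hg =>
      rcases hg with rfl | rfl | rfl
      · exact ⟨D.x_mem, by rw [D.xp]; exact Subgroup.one_mem _⟩
      · exact ⟨D.y_mem, by rw [D.yp]; exact Subgroup.one_mem _⟩
      · exact ⟨D.z_mem, Subgroup.pow_mem _ (Subgroup.mem_zpowers _) _⟩
    | one => exact ⟨S.one_mem, by rw [one_pow]; exact Subgroup.one_mem _⟩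
    | mul a b _ _ iha ihb =>
      obtain ⟨c, hc, hk⟩ := r2cpow_mul_pow D iha.1 ihb.1 p
      exact ⟨S.mul_mem iha.1 ihb.1, by
        rw [hk]; exact Subgroup.mul_mem _ (Subgroup.mul_mem _ iha.2 ihb.2) hc⟩
    | inv a _ iha => exact ⟨S.inv_mem iha.1, by rw [inv_pow]; exact Subgroup.inv_mem _ iha.2⟩
  intro g hg
  rw [← D.gen] at hg
  exact (key g hg).2

end Cfsg.Agent.Helper27.R2
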