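import Mathlib
import Cfsg.Agent.Lib.R2.R2Defs
import Cfsg.Agent.Lib.R2.R2CComm
import Cfsg.Agent.Lib.R2.R2CPow

/-!
# R2 farm (S5289), piece R2-CNOESS
C(p,n), n >= 4, has no essential subgroup.  Proof: P essential => P != S (not_isEssential_self), take t in N_S(P) outside P (exists_mem_normalizerIn_not_mem).  Let W : Subgroup P be the closure of {r^(p^(n-3)) | r : P}: invariant under every automorphism of P; its elements are central in S (r^(p^(n-3)) = (r^p)^(p^(n-4)) in <z> by CD.pow_mem, z central); it contains <w> since z in Z(S) <= P (Zc_le_essential).  Then kapN P t lies in stab W (fixes W pointwise; t e t^-1 e^-1 in <w> <= W by CD.comm_mem), so helper3's OL.mem_of_stab gives t in P: contradiction.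
-/

set_option autoImplicit false
set_option linter.style.haveILetI false
set_option linter.unusedSectionVars false
set_option linter.unusedVariables false

namespace Cfsg.Agent.Helper27.R2

open Cfsg Cfsg.FusionSystem Cfsg.Agent.Helper25 Cfsg.Agent.Helper26 Cfsg.Agent.Helper3.KL
open Cfsg.Agent.Helper3.TT Cfsg.Agent.Helper3.SC Cfsg.Agent.Helper3.OL

variable {Ω : Type*} [Group Ω] {S : Subgroup Ω} {x y z : Ω} {p n s : ℕ}


theorem CD.no_essential [Finite S] [Fact p.Prime] (D : CD p n S x y z) (hn4 : 4 ≤ n)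
    (hS : IsPGroup p S) {F : FusionSystem S} (hF : F.IsSaturated p) (P : Subgroup Ω) :
    ¬ F.IsEssential p P := by
  intro hP
  have hPS : P ≤ S := hP.1.1
  have hne : P ≠ S := by
    rintro rfl
    exact Cfsg.Agent.Helper25.Omit.not_isEssential_self p F hF hP
  obtain ⟨t, htN, htP⟩ := exists_mem_normalizerIn_not_mem hS hPS hne
  have htS : t ∈ S := htN.1
  -- elements of `⟨z⟩` are central in `S`
  have hzc : ∀ u ∈ Subgroup.zpowers z, ∀ g ∈ S, g * u = u * g := by
    rintro u ⟨k, rfl⟩ g hg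
    exact ((Commute.zpow_right (D.z_central g hg) k) : g * z ^ k = z ^ k * g)
  -- `z ∈ P` since `P` is centric
  have hcen : centralizerIn S P ≤ P := hP.1.2 P (isConj_refl F hPS)
  have hzP : z ∈ P := by
    apply hcen
    rw [mem_centralizerIn]
    exact ⟨D.z_mem, fun e he => D.z_central e (hPS he)⟩
  -- the subgroup `W`
  let W : Subgroup P := Subgroup.closure {r' : P | ∃ r : P, r' = r ^ p ^ (n - 3)}
  have hWz : ∀ w ∈ W, ((w : P) : Ω) ∈ Subgroup.zpowers z := by
    intro w hw
    induction hw using Subgroup.closure_induction with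
    | mem w hw =>
      obtain ⟨r, rfl⟩ := hw
      have h1 : ((r ^ p ^ (n - 3) : P) : Ω) = ((r : Ω) ^ p) ^ p ^ (n - 4) := by
        rw [Subgroup.coe_pow, ← pow_mul, ← pow_succ']
        congr 2
        omega
      rw [h1]
      exact Subgroup.pow_mem _ (D.pow_mem (r : Ω) (hPS r.2)) _
    | one => exact Subgroup.one_mem _
    | mul a b _ _ ha hb => rw [Subgroup.coe_mul]; exact Subgroup.mul_mem _ ha hb
    | inv a _ ha => rw [Subgroup.coe_inv]; exact Subgroup.inv_mem _ ha
  have hW : ∀ α ∈ F.autGroup P, ∀ w ∈ W, α w ∈ W := by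
    intro α _ w hw
    induction hw using Subgroup.closure_induction with
    | mem w hw =>
      obtain ⟨r, rfl⟩ := hw
      rw [map_pow]
      exact Subgroup.subset_closure ⟨α r, rfl⟩
    | one => rw [map_one]; exact W.one_mem
    | mul a b _ _ ha hb => rw [map_mul]; exact W.mul_mem ha hb
    | inv a _ ha => rw [map_inv]; exact W.inv_mem ha
  have hwW : (⟨z, hzP⟩ : P) ^ p ^ (n - 3) ∈ W := Subgroup.subset_closure ⟨⟨z, hzP⟩, rfl⟩
  have ha : kapN P (⟨t, htN⟩ : normalizerIn S P) ∈ stab W := by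
    rw [mem_stab]
    refine ⟨fun w hw => ?_, fun e => ?_⟩
    · apply Subtype.ext
      rw [kapN_apply]
      show t * (w : Ω) * t⁻¹ = w
      rw [hzc _ (hWz w hw) t htS, mul_inv_cancel_right]
    · obtain ⟨k, hk⟩ := D.comm_mem t htS (e : Ω) (hPS e.2)
      have h2 : kapN P (⟨t, htN⟩ : normalizerIn S P) e * e⁻¹ = ((⟨z, hzP⟩ : P) ^ p ^ (n - 3)) ^ k := by
        apply Subtype.ext
        rw [Subgroup.coe_mul, kapN_apply, Subgroup.coe_inv, Subgroup.coe_zpow, Subgroup.coe_pow]
        show t * (e : Ω) * t⁻¹ * (e : Ω)⁻¹ = (z ^ p ^ (n - 3)) ^ k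
        exact hk.symm
      rw [h2]
      exact W.zpow_mem hwW k
  exact htP (mem_of_stab hS hP W hW ⟨t, htN⟩ ha)

end Cfsg.Agent.Helper27.R2
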