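import Mathlib
import Cfsg.Agent.Lib.R2.R2Defs
import Cfsg.Agent.Lib.R2.R2Basic
import Cfsg.Agent.Lib.R2.R2CExp
import Cfsg.Agent.Lib.R2.R2CNoEss

/-!
# R2 farm (S5289), piece R2-CMAIN
C(p,n): S is normal in F.  n = 3: CD.exp_three contradicts hnotE (card S = p^3 from D.card); n >= 4: CD.no_essential + isNormal_of_no_essential.
-/

set_option autoImplicit false
set_option linter.style.haveILetI false
set_option linter.unusedSectionVars false
set_option linter.unusedVariables false

namespace Cfsg.Agent.Helper27.R2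

open Cfsg Cfsg.FusionSystem Cfsg.Agent.Helper25 Cfsg.Agent.Helper26 Cfsg.Agent.Helper3.KL
open Cfsg.Agent.Helper3.TT Cfsg.Agent.Helper3.SC Cfsg.Agent.Helper3.OL

variable {Ω : Type*} [Group Ω] {S : Subgroup Ω} {x y z : Ω} {p n s : ℕ}


theorem CD.isNormal [Finite S] [Fact p.Prime] (D : CD p n S x y z) (hp2 : p ≠ 2)
    (hS : IsPGroup p S) {F : FusionSystem S} (hF : F.IsSaturated p)
    (hnotE : ¬ (Nat.card S = p ^ 3 ∧ Monoid.exponent ↥S = p)) : F.IsNormal S := by
  have hn := D.hn
  rcases Nat.lt_or_ge n 4 with h4 | h4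
  · exfalso
    have hn3 : n = 3 := by omega
    apply hnotE
    refine ⟨?_, D.exp_three hn3 hp2⟩
    rw [D.card, hn3]
  · exact isNormal_of_no_essential hS F hF (fun P => D.no_essential h4 hS hF P)

end Cfsg.Agent.Helper27.R2
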