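import Mathlib
import Cfsg.Agent.Lib.R2.R2Defs

/-!
# R2 farm (S5289), piece R2-EXALP
if all essential subgroups are abelian, every F-morphism defined on a nonabelian subgroup Q with |S| <= p |Q| is the restriction of an element of Aut_F(S).  Use Helper25's alperin_induction (Lib/Helper25/FusionAlperin2.lean; model: OL.agree_of_large in Lib/Helper3/OliverC2.lean) with Pr Q phi := forall hQS : Q <= S, (not abelian Q) -> |S| <= p |Q| -> exists gamma in Aut_F(S) extending phi.  hconj: gamma = conjugation by g.  hcomp: F-morphisms are injective, so the target Q' contains a copy of Q, hence is nonabelian and large; compose the two automorphisms.  hinv: phi.range is nonabelian and large; take gamma^-1.  haut: P = S: gamma = alpha; P essential: abelian by hno, nothing to prove.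
-/

set_option autoImplicit false
set_option linter.style.haveILetI false
set_option linter.unusedSectionVars false
set_option linter.unusedVariables false

namespace Cfsg.Agent.Helper27.R2

open Cfsg Cfsg.FusionSystem Cfsg.Agent.Helper25 Cfsg.Agent.Helper26 Cfsg.Agent.Helper3.KL
open Cfsg.Agent.Helper3.TT Cfsg.Agent.Helper3.SC Cfsg.Agent.Helper3.OL

variable {Ω : Type*} [Group Ω] {S : Subgroup Ω} {x y z : Ω} {p n s : ℕ}


/-- nonabelian and of index at most `p` -/
def exalp_Large (p : ℕ) (S Q : Subgroup Ω) : Prop :=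
  (¬ ∀ u v : Q, u * v = v * u) ∧ Nat.card S ≤ p * Nat.card Q

/-- the morphism is the restriction of an `F`-automorphism of `S` -/
def exalp_Ext (F : FusionSystem S) (Q : Subgroup Ω) (φ : Q →* Ω) : Prop :=
  ∃ γ ∈ F.autGroup S, ∀ (q : Ω) (hq : q ∈ Q) (hqS : q ∈ S), φ ⟨q, hq⟩ = ((γ ⟨q, hqS⟩ : S) : Ω)

theorem exalp_main [Finite S] [Fact p.Prime] (hS : IsPGroup p S) {F : FusionSystem S}
    (hF : F.IsSaturated p) (hno : ∀ R : Subgroup Ω, F.IsEssential p R → ∀ u v : R, u * v = v * u)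
    {Q : Subgroup Ω} {φ : Q →* Ω} (hφ : φ ∈ F.Hom Q) (hQ : exalp_Large p S Q) :
    exalp_Ext F Q φ := by
  refine alperin_induction p hS F hF (fun Q φ => exalp_Large p S Q → exalp_Ext F Q φ) ?_ ?_ ?_ ?_ hφ hQ
  · -- conjugations
    intro P g hPS hg _
    refine ⟨MulAut.conj ⟨g, hg⟩, ?_, fun q hq hqS => rfl⟩
    apply autInducedBy_le_autGroup F le_rfl
    rw [mem_autInducedBy_iff]
    exact ⟨g, hg, fun _ => rfl⟩
  · -- composition
    intro P Q φ ψ hφ hψ hPrφ hPrψ h hP
    have hQS : Q ≤ S := (F.le_of_mem hψ).1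
    have hPS : P ≤ S := (F.le_of_mem hφ).1
    haveI : Finite Q := finite_of_le_finite hQS
    obtain ⟨γ, hγ, hγz⟩ := hPrφ hP
    have hQl : exalp_Large p S Q := by
      constructor
      · intro hQab
        apply hP.1
        intro u v
        apply F.injective_of_mem hφ
        rw [map_mul, map_mul]
        exact congrArg Subtype.val (hQab ⟨φ u, h u⟩ ⟨φ v, h v⟩)
      · refine le_trans hP.2 (Nat.mul_le_mul_left p ?_)
        apply Nat.card_le_card_of_injective (φ.codRestrict Q h)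
        intro a b hab
        apply F.injective_of_mem hφ
        exact congrArg Subtype.val hab
    obtain ⟨γ', hγ', hγ'z⟩ := hPrψ hQl
    refine ⟨γ' * γ, (F.autGroup S).mul_mem hγ' hγ, fun q hq hqS => ?_⟩
    have e : φ ⟨q, hq⟩ = ((γ ⟨q, hqS⟩ : S) : Ω) := hγz q hq hqS
    have hq₁Q : ((γ ⟨q, hqS⟩ : S) : Ω) ∈ Q := e ▸ h ⟨q, hq⟩
    have e2 : (φ.codRestrict Q h) ⟨q, hq⟩ = ⟨((γ ⟨q, hqS⟩ : S) : Ω), hq₁Q⟩ := Subtype.ext e
    rw [MonoidHom.comp_apply, e2, hγ'z _ hq₁Q (γ ⟨q, hqS⟩).2, MulAut.mul_apply]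
  · -- inverses
    intro P φ hφ hPr ψ hψ hψφ hR
    have hPS : P ≤ S := (F.le_of_mem hφ).1
    haveI : Finite P := finite_of_le_finite hPS
    have hinj := F.injective_of_mem hφ
    have hPl : exalp_Large p S P := by
      constructor
      · intro hPab
        apply hR.1
        rintro ⟨_, ⟨a, rfl⟩⟩ ⟨_, ⟨b, rfl⟩⟩
        apply Subtype.ext
        show φ a * φ b = φ b * φ a
        rw [← map_mul, ← map_mul, hPab a b]
      · rw [Nat.card_congr (MonoidHom.ofInjective hinj).toEquiv]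
        exact hR.2
    obtain ⟨γ, hγ, hγz⟩ := hPr hPl
    refine ⟨γ⁻¹, (F.autGroup S).inv_mem hγ, fun z hzR hzS => ?_⟩
    obtain ⟨q, hq⟩ := id hzR
    have h1 := hγz q q.2 (hPS q.2)
    have h3 : (⟨(q : Ω), q.2⟩ : P) = q := Subtype.ext rfl
    rw [h3, hq] at h1
    have h4 : (⟨z, hzR⟩ : φ.range) = ⟨φ q, ⟨q, rfl⟩⟩ := Subtype.ext hq.symm
    rw [h4, hψφ q]
    have h5 : γ ⟨q, hPS q.2⟩ = ⟨z, hzS⟩ := Subtype.ext h1.symm
    rw [← h5, MulAut.inv_apply_self]
  · -- automorphisms of `S` and of essential subgroups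
    rintro P (rfl | hP) α hα hPl
    · exact ⟨α, hα, fun q hq hqS => rfl⟩
    · exact absurd (hno P hP) hPl.1

theorem exists_aut_of_large [Finite S] [Fact p.Prime] (hS : IsPGroup p S) {F : FusionSystem S}
    (hF : F.IsSaturated p) (hno : ∀ R : Subgroup Ω, F.IsEssential p R → ∀ u v : R, u * v = v * u)
    {Q : Subgroup Ω} {φ : Q →* Ω} (hφ : φ ∈ F.Hom Q) (hQS : Q ≤ S)
    (hnab : ¬ ∀ u v : Q, u * v = v * u) (hcard : Nat.card S ≤ p * Nat.card Q) :
    ∃ γ ∈ F.autGroup S, ∀ q : Q, φ q = ((γ ⟨q, hQS q.2⟩ : S) : Ω) := by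
  obtain ⟨γ, hγ, h⟩ := exalp_main hS hF hno hφ ⟨hnab, hcard⟩
  exact ⟨γ, hγ, fun q => h q q.2 (hQS q.2)⟩

end Cfsg.Agent.Helper27.R2
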