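import Mathlib
import Cfsg.Agent.Lib.R2.R2Defs

/-!
# R2 farm (S5289), piece R2-GABEL
A = <y,z> is abelian and its elements are y^i z^j (natural exponents: y^p = 1, z^(p^(n-2)) = 1, p >= 5 > 0).
-/

set_option autoImplicit false
set_option linter.style.haveILetI false
set_option linter.unusedSectionVars false
set_option linter.unusedVariables false

namespace Cfsg.Agent.Helper27.R2

open Cfsg Cfsg.FusionSystem Cfsg.Agent.Helper25 Cfsg.Agent.Helper26 Cfsg.Agent.Helper3.KL
open Cfsg.Agent.Helper3.TT Cfsg.Agent.Helper3.SC Cfsg.Agent.Helper3.OL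

variable {Ω : Type*} [Group Ω] {S : Subgroup Ω} {x y z : Ω} {p n s : ℕ}


theorem r2gabel_le_centralizer {y z g : Ω} (hy : g * y = y * g) (hz : g * z = z * g) :
    AA y z ≤ Subgroup.centralizer ({g} : Set Ω) := by
  unfold AA
  rw [Subgroup.closure_le]
  rintro h (rfl | rfl)
  · rw [SetLike.mem_coe, Subgroup.mem_centralizer_iff]
    rintro k rfl
    exact hy
  · rw [SetLike.mem_coe, Subgroup.mem_centralizer_iff]
    rintro k rfl
    exact hz

theorem GD.A_comm (D : GD p n s S x y z) : ∀ a ∈ AA y z, ∀ b ∈ AA y z, a * b = b * a := by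
  intro a ha b hb
  -- `a` commutes with `y` and `z`
  have hay : a * y = y * a := by
    have h1 := r2gabel_le_centralizer (g := y) rfl D.yz ha
    rw [Subgroup.mem_centralizer_iff] at h1
    exact (h1 y rfl).symm
  have haz : a * z = z * a := by
    have h1 := r2gabel_le_centralizer (g := z) D.yz.symm rfl ha
    rw [Subgroup.mem_centralizer_iff] at h1
    exact (h1 z rfl).symm
  have h2 := r2gabel_le_centralizer hay haz hb
  rw [Subgroup.mem_centralizer_iff] at h2
  exact h2 a rfl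

theorem r2gabel_inv_pow {g : Ω} {m : ℕ} (hm : 0 < m) (h : g ^ m = 1) (i : ℕ) :
    (g ^ i)⁻¹ = g ^ ((m - 1) * i) := by
  have h1 : g⁻¹ = g ^ (m - 1) := by
    rw [inv_eq_iff_mul_eq_one, ← pow_succ', Nat.sub_add_cancel hm]
    exact h
  rw [← inv_pow, h1, ← pow_mul]

theorem GD.A_dec (D : GD p n s S x y z) {a : Ω} (ha : a ∈ AA y z) :
    ∃ i j : ℕ, a = y ^ i * z ^ j := by
  have hp0 : 0 < p := by have := D.hp5; omega
  have hq0 : 0 < p ^ (n - 2) := Nat.pow_pos hp0
  have hyz : Commute y z := D.yz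
  unfold AA at ha
  induction ha using Subgroup.closure_induction with
  | mem g hg =>
    rcases hg with rfl | rfl
    · exact ⟨1, 0, by simp⟩
    · exact ⟨0, 1, by simp⟩
  | one => exact ⟨0, 0, by simp⟩
  | mul a b _ _ iha ihb =>
    obtain ⟨i, j, rfl⟩ := iha
    obtain ⟨k, l, rfl⟩ := ihb
    refine ⟨i + k, j + l, ?_⟩
    have hc : z ^ j * y ^ k = y ^ k * z ^ j := (Commute.pow_pow hyz.symm j k).eq
    calc y ^ i * z ^ j * (y ^ k * z ^ l) = y ^ i * (z ^ j * y ^ k) * z ^ l := by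
          simp only [mul_assoc]
      _ = y ^ i * (y ^ k * z ^ j) * z ^ l := by rw [hc]
      _ = y ^ (i + k) * z ^ (j + l) := by
          rw [pow_add, pow_add]; simp only [mul_assoc]
  | inv a _ iha =>
    obtain ⟨i, j, rfl⟩ := iha
    refine ⟨(p - 1) * i, (p ^ (n - 2) - 1) * j, ?_⟩
    have hc : (z ^ j)⁻¹ * (y ^ i)⁻¹ = (y ^ i)⁻¹ * (z ^ j)⁻¹ :=
      ((Commute.pow_pow hyz.symm j i).inv_inv).eq
    rw [mul_inv_rev, hc, r2gabel_inv_pow hp0 D.yp, r2gabel_inv_pow hq0 D.zp]

end Cfsg.Agent.Helper27.R2
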