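import Mathlib
import Cfsg.Agent.Lib.R2.R2Defs

/-!
# R2 farm (S5289), piece R2-GCONJ
conjugation by x on A = <y,z>:  x^-1 (y^i z^j) x = (y w^s)^i (y z)^j = y^(i+j) z^j w^(s i), where w = ww p n z = z^(p^(n-3)) and z^(s p^(n-3)) = w^s; y, z, w commute; y^p = 1 and p | p^(n-3) (n >= 4) give conj_ww; conj2 = conj applied twice.
-/

set_option autoImplicit false
set_option linter.style.haveILetI false
set_option linter.unusedSectionVars false
set_option linter.unusedVariables false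

namespace Cfsg.Agent.Helper27.R2

open Cfsg Cfsg.FusionSystem Cfsg.Agent.Helper25 Cfsg.Agent.Helper26 Cfsg.Agent.Helper3.KL
open Cfsg.Agent.Helper3.TT Cfsg.Agent.Helper3.SC Cfsg.Agent.Helper3.OL

variable {Ω : Type*} [Group Ω] {S : Subgroup Ω} {x y z : Ω} {p n s : ℕ}


theorem gconj_conj_mul (x a b : Ω) : x⁻¹ * (a * b) * x = (x⁻¹ * a * x) * (x⁻¹ * b * x) := by group

theorem gconj_conj_pow (x a : Ω) (k : ℕ) : x⁻¹ * a ^ k * x = (x⁻¹ * a * x) ^ k := by
  induction k with
  | zero => simp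
  | succ k ih => rw [pow_succ, pow_succ, gconj_conj_mul, ih]

theorem GD.conj_formula (D : GD p n s S x y z) (i j : ℕ) :
    x⁻¹ * (y ^ i * z ^ j) * x = y ^ (i + j) * z ^ j * (ww p n z) ^ (s * i) := by
  have hc : Commute y z := D.yz
  rw [gconj_conj_mul, gconj_conj_pow, gconj_conj_pow, D.xy, D.xz]
  rw [(hc.pow_right _).mul_pow, hc.mul_pow]
  have e1 : (z ^ (s * p ^ (n - 3))) ^ i = (ww p n z) ^ (s * i) := by
    unfold ww
    rw [← pow_mul, ← pow_mul]
    congr 1
    ring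
  rw [e1]
  have hw : Commute (ww p n z ^ (s * i)) z := by
    unfold ww
    exact ((Commute.refl z).pow_left _).pow_left _
  have hwy : Commute (ww p n z ^ (s * i)) y := by
    unfold ww
    exact ((hc.symm).pow_left _).pow_left _
  calc y ^ i * ww p n z ^ (s * i) * (y ^ j * z ^ j)
      = y ^ i * (ww p n z ^ (s * i) * y ^ j) * z ^ j := by group
    _ = y ^ i * (y ^ j * ww p n z ^ (s * i)) * z ^ j := by rw [(hwy.pow_right j).eq]
    _ = y ^ i * y ^ j * (ww p n z ^ (s * i) * z ^ j) := by group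
    _ = y ^ i * y ^ j * (z ^ j * ww p n z ^ (s * i)) := by rw [(hw.pow_right j).eq]
    _ = y ^ (i + j) * z ^ j * ww p n z ^ (s * i) := by rw [pow_add]; group

theorem GD.conj_ww (D : GD p n s S x y z) : x⁻¹ * ww p n z * x = ww p n z := by
  have h := D.conj_formula 0 (p ^ (n - 3))
  rw [pow_zero, one_mul, Nat.zero_add, Nat.mul_zero, pow_zero, mul_one] at h
  have hy : y ^ p ^ (n - 3) = 1 := by
    have hn := D.hn
    have e : p ^ (n - 3) = p * p ^ (n - 4) := by
      rw [← pow_succ']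
      congr 1
      omega
    rw [e, pow_mul, D.yp, one_pow]
  rw [hy, one_mul] at h
  exact h

theorem GD.conj_zp (D : GD p n s S x y z) : x⁻¹ * z ^ p * x = z ^ p := by
  have h := D.conj_formula 0 p
  rw [pow_zero, one_mul, Nat.zero_add, Nat.mul_zero, pow_zero, mul_one, D.yp, one_mul] at h
  exact h

theorem GD.conj2_formula (D : GD p n s S x y z) (i j : ℕ) :
    (x ^ 2)⁻¹ * (y ^ i * z ^ j) * x ^ 2 = y ^ (i + 2 * j) * z ^ j * (ww p n z) ^ (s * (2 * i + j)) := by
  have e : (x ^ 2)⁻¹ * (y ^ i * z ^ j) * x ^ 2 = x⁻¹ * (x⁻¹ * (y ^ i * z ^ j) * x) * x := by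
    rw [pow_two]; group
  rw [e, D.conj_formula, gconj_conj_mul, D.conj_formula, gconj_conj_pow, D.conj_ww, mul_assoc,
    ← pow_add]
  congr 2
  · ring
  · ring

end Cfsg.Agent.Helper27.R2
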