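import Mathlib
import Cfsg.Agent.Lib.R2.R2Defs
import Cfsg.Agent.Lib.R2.R2GAbel
import Cfsg.Agent.Lib.R2.R2GConj

/-!
# R2 farm (S5289), piece R2-GSDEC
x normalizes A (both directions; x = (x^-1)^(p-1) as x^p = 1) and S = {x^i y^j z^k} with reduced exponents.  Hint for S_dec: closure induction on D.gen with the predicate `exists i, exists a in A, g = x^i * a` (x^i a x^i' a' = x^(i+i') (x^-i' a x^i') a'), then A_dec and reduction of exponents modulo p, p, p^(n-2).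
-/

set_option autoImplicit false
set_option linter.style.haveILetI false
set_option linter.unusedSectionVars false
set_option linter.unusedVariables false

namespace Cfsg.Agent.Helper27.R2

open Cfsg Cfsg.FusionSystem Cfsg.Agent.Helper25 Cfsg.Agent.Helper26 Cfsg.Agent.Helper3.KL
open Cfsg.Agent.Helper3.TT Cfsg.Agent.Helper3.SC Cfsg.Agent.Helper3.OL

variable {Ω : Type*} [Group Ω] {S : Subgroup Ω} {x y z : Ω} {p n s : ℕ}


theorem r2gsdec_conj1 (D : GD p n s S x y z) {a : Ω} (ha : a ∈ AA y z) : x⁻¹ * a * x ∈ AA y z := by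
  obtain ⟨i, j, rfl⟩ := D.A_dec ha
  rw [D.conj_formula i j]
  exact mul_mem (mul_mem (pow_mem (y_mem_AA y z) _) (pow_mem (z_mem_AA y z) _))
    (pow_mem (ww_mem_AA p n y z) _)

theorem r2gsdec_conj_pow (D : GD p n s S x y z) (k : ℕ) {a : Ω} (ha : a ∈ AA y z) :
    (x ^ k)⁻¹ * a * x ^ k ∈ AA y z := by
  induction k with
  | zero => simpa using ha
  | succ k ih =>
    have e : (x ^ (k + 1))⁻¹ * a * x ^ (k + 1) = x⁻¹ * ((x ^ k)⁻¹ * a * x ^ k) * x := by
      rw [pow_succ]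
      group
    rw [e]
    exact r2gsdec_conj1 D ih

theorem r2gsdec_x_inv (D : GD p n s S x y z) : x ^ (p - 1) = x⁻¹ := by
  have hp : 1 ≤ p := by have := D.hp5; omega
  have h1 : x ^ (p - 1) * x = 1 := by
    rw [← pow_succ, Nat.sub_add_cancel hp, D.xp]
  exact eq_inv_of_mul_eq_one_left h1

theorem GD.conj_mem_A (D : GD p n s S x y z) {a : Ω} (ha : a ∈ AA y z) :
    x⁻¹ * a * x ∈ AA y z ∧ x * a * x⁻¹ ∈ AA y z := by
  refine ⟨r2gsdec_conj1 D ha, ?_⟩
  have h1 := r2gsdec_conj_pow D (p - 1) ha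
  rw [r2gsdec_x_inv D, inv_inv] at h1
  exact h1

theorem r2gsdec_conj_pow' (D : GD p n s S x y z) (k : ℕ) {a : Ω} (ha : a ∈ AA y z) :
    x ^ k * a * (x ^ k)⁻¹ ∈ AA y z := by
  induction k with
  | zero => simpa using ha
  | succ k ih =>
    have e : x ^ (k + 1) * a * (x ^ (k + 1))⁻¹ = x * (x ^ k * a * (x ^ k)⁻¹) * x⁻¹ := by
      rw [pow_succ']
      group
    rw [e]
    exact (D.conj_mem_A ih).2

/-- every element of `S` is `x ^ i * a` with `a ∈ A` -/
theorem r2gsdec_xa (D : GD p n s S x y z) {g : Ω} (hg : g ∈ S) :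
    ∃ i : ℕ, ∃ a ∈ AA y z, g = x ^ i * a := by
  rw [← D.gen] at hg
  induction hg using Subgroup.closure_induction with
  | mem g hg =>
    rcases hg with rfl | hg
    · exact ⟨1, 1, one_mem _, by rw [pow_one, mul_one]⟩
    · rcases hg with rfl | hg
      · exact ⟨0, g, y_mem_AA g z, by rw [pow_zero, one_mul]⟩
      · rw [Set.mem_singleton_iff] at hg
        subst hg
        exact ⟨0, g, z_mem_AA y g, by rw [pow_zero, one_mul]⟩
  | one => exact ⟨0, 1, one_mem _, by rw [pow_zero, one_mul]⟩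
  | mul g g' _ _ ihg ihg' =>
    obtain ⟨i, a, ha, rfl⟩ := ihg
    obtain ⟨i', a', ha', rfl⟩ := ihg'
    refine ⟨i + i', (x ^ i')⁻¹ * a * x ^ i' * a', mul_mem (r2gsdec_conj_pow D i' ha) ha', ?_⟩
    rw [pow_add]
    group
  | inv g _ ihg =>
    obtain ⟨i, a, ha, rfl⟩ := ihg
    refine ⟨(p - 1) * i, x ^ i * a⁻¹ * (x ^ i)⁻¹, r2gsdec_conj_pow' D i (inv_mem ha), ?_⟩
    rw [pow_mul, r2gsdec_x_inv D, inv_pow]
    group

theorem GD.S_dec (D : GD p n s S x y z) {g : Ω} (hg : g ∈ S) :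
    ∃ i j k : ℕ, i < p ∧ j < p ∧ k < p ^ (n - 2) ∧ g = x ^ i * (y ^ j * z ^ k) := by
  obtain ⟨i, a, ha, rfl⟩ := r2gsdec_xa D hg
  obtain ⟨j, k, rfl⟩ := D.A_dec ha
  have hp : 0 < p := by have := D.hp5; omega
  refine ⟨i % p, j % p, k % p ^ (n - 2), Nat.mod_lt _ hp, Nat.mod_lt _ hp,
    Nat.mod_lt _ (pow_pos hp _), ?_⟩
  rw [← pow_eq_pow_mod i D.xp, ← pow_eq_pow_mod j D.yp, ← pow_eq_pow_mod k D.zp]

end Cfsg.Agent.Helper27.R2
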