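import Mathlib
import Cfsg.Agent.Lib.R2.R2Defs
import Cfsg.Agent.Lib.R2.R2GSDec

/-!
# R2 farm (S5289), piece R2-GINJ
uniqueness of the normal form (counting): the map Fin p x Fin p x Fin (p^(n-2)) -> S, (i,j,k) |-> x^i y^j z^k is surjective (GD.S_dec) between finite sets of the same cardinality p^n = p * p * p^(n-2) (D.card, n >= 4), hence injective.
-/

set_option autoImplicit false
set_option linter.style.haveILetI false
set_option linter.unusedSectionVars false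
set_option linter.unusedVariables false

namespace Cfsg.Agent.Helper27.R2

open Cfsg Cfsg.FusionSystem Cfsg.Agent.Helper25 Cfsg.Agent.Helper26 Cfsg.Agent.Helper3.KL
open Cfsg.Agent.Helper3.TT Cfsg.Agent.Helper3.SC Cfsg.Agent.Helper3.OL

variable {Ω : Type*} [Group Ω] {S : Subgroup Ω} {x y z : Ω} {p n s : ℕ}


theorem GD.inj [Finite S] (D : GD p n s S x y z) {i i' j j' k k' : ℕ} (hi : i < p) (hi' : i' < p)
    (hj : j < p) (hj' : j' < p) (hk : k < p ^ (n - 2)) (hk' : k' < p ^ (n - 2))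
    (h : x ^ i * (y ^ j * z ^ k) = x ^ i' * (y ^ j' * z ^ k')) : i = i' ∧ j = j' ∧ k = k' := by
  have hmem : ∀ a b c : ℕ, x ^ a * (y ^ b * z ^ c) ∈ S := fun a b c =>
    S.mul_mem (S.pow_mem D.x_mem a) (S.mul_mem (S.pow_mem D.y_mem b) (S.pow_mem D.z_mem c))
  let f : Fin p × Fin p × Fin (p ^ (n - 2)) → S := fun t =>
    ⟨x ^ (t.1 : ℕ) * (y ^ (t.2.1 : ℕ) * z ^ (t.2.2 : ℕ)), hmem _ _ _⟩
  have hsurj : Function.Surjective f := by
    rintro ⟨g, hg⟩
    obtain ⟨a, b, c, ha, hb, hc, rfl⟩ := D.S_dec hg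
    exact ⟨(⟨a, ha⟩, ⟨b, hb⟩, ⟨c, hc⟩), rfl⟩
  have hcard : Nat.card (Fin p × Fin p × Fin (p ^ (n - 2))) = Nat.card S := by
    rw [D.card, Nat.card_prod, Nat.card_prod, Nat.card_eq_fintype_card, Fintype.card_fin,
      Nat.card_eq_fintype_card, Fintype.card_fin]
    have hn := D.hn
    obtain ⟨m, rfl⟩ : ∃ m, n = m + 2 := ⟨n - 2, by omega⟩
    rw [Nat.add_sub_cancel]
    ring
  have hbij : Function.Bijective f := (Nat.bijective_iff_surjective_and_card f).2 ⟨hsurj, hcard⟩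
  have heq : f (⟨i, hi⟩, ⟨j, hj⟩, ⟨k, hk⟩) = f (⟨i', hi'⟩, ⟨j', hj'⟩, ⟨k', hk'⟩) :=
    Subtype.ext h
  have h2 := hbij.1 heq
  simp only [Prod.mk.injEq, Fin.mk.injEq] at h2
  exact h2

end Cfsg.Agent.Helper27.R2
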