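import Mathlib
import Cfsg.Agent.Lib.R2.R2Defs
import Cfsg.Agent.Lib.R2.R2GInj

/-!
# R2 farm (S5289), piece R2-GORD
consequences of GD.inj (reduce exponents mod p resp. p^(n-2) using x^p = y^p = z^(p^(n-2)) = 1, then compare with the normal form of 1).  ww p n z = z^(p^(n-3)), p^(n-3) < p^(n-2), p^(n-3) * p = p^(n-2).
-/

set_option autoImplicit false
set_option linter.style.haveILetI false
set_option linter.unusedSectionVars false
set_option linter.unusedVariables false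

namespace Cfsg.Agent.Helper27.R2

open Cfsg Cfsg.FusionSystem Cfsg.Agent.Helper25 Cfsg.Agent.Helper26 Cfsg.Agent.Helper3.KL
open Cfsg.Agent.Helper3.TT Cfsg.Agent.Helper3.SC Cfsg.Agent.Helper3.OL

variable {Ω : Type*} [Group Ω] {S : Subgroup Ω} {x y z : Ω} {p n s : ℕ}


theorem r2gord_ppos (D : GD p n s S x y z) : 0 < p := by
  have := D.hp5; omega

theorem r2gord_pow_succ (D : GD p n s S x y z) : p ^ (n - 3) * p = p ^ (n - 2) := by
  have hn := D.hn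
  have : n - 2 = (n - 3) + 1 := by omega
  rw [this, pow_succ]

theorem r2gord_norm [Finite S] (D : GD p n s S x y z) {i j k : ℕ} (h : x ^ i * (y ^ j * z ^ k) = 1) :
    p ∣ i ∧ p ∣ j ∧ p ^ (n - 2) ∣ k := by
  have hp := r2gord_ppos D
  have hq : 0 < p ^ (n - 2) := pow_pos hp _
  have h1 : x ^ (i % p) * (y ^ (j % p) * z ^ (k % p ^ (n - 2))) = x ^ 0 * (y ^ 0 * z ^ 0) := by
    rw [← pow_eq_pow_mod i D.xp, ← pow_eq_pow_mod j D.yp, ← pow_eq_pow_mod k D.zp, h]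
    simp
  obtain ⟨e1, e2, e3⟩ := D.inj (Nat.mod_lt _ hp) hp (Nat.mod_lt _ hp) hp (Nat.mod_lt _ hq) hq h1
  exact ⟨Nat.dvd_of_mod_eq_zero e1, Nat.dvd_of_mod_eq_zero e2, Nat.dvd_of_mod_eq_zero e3⟩

theorem GD.pow_eq_one_imp [Finite S] (D : GD p n s S x y z) {j k : ℕ} (h : y ^ j * z ^ k = 1) :
    p ∣ j ∧ p ^ (n - 2) ∣ k := by
  have h1 : x ^ 0 * (y ^ j * z ^ k) = 1 := by rw [pow_zero, one_mul, h]
  exact (r2gord_norm D h1).2

theorem GD.x_pow_mem [Finite S] (D : GD p n s S x y z) {i : ℕ} (h : x ^ i ∈ AA y z) : p ∣ i := by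
  obtain ⟨j, k, hjk⟩ := D.A_dec h
  have hp := r2gord_ppos D
  have hq : 0 < p ^ (n - 2) := pow_pos hp _
  have h1 : x ^ (i % p) * (y ^ 0 * z ^ 0) = x ^ 0 * (y ^ (j % p) * z ^ (k % p ^ (n - 2))) := by
    rw [← pow_eq_pow_mod i D.xp, ← pow_eq_pow_mod j D.yp, ← pow_eq_pow_mod k D.zp, hjk]
    simp
  obtain ⟨e1, e2, e3⟩ := D.inj (Nat.mod_lt _ hp) hp hp (Nat.mod_lt _ hp) hq (Nat.mod_lt _ hq) h1
  exact Nat.dvd_of_mod_eq_zero e1

theorem GD.ww_ne_one [Finite S] (D : GD p n s S x y z) : ww p n z ≠ 1 := by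
  intro h
  have hp := r2gord_ppos D
  have h1 : y ^ 0 * z ^ p ^ (n - 3) = 1 := by rw [pow_zero, one_mul]; exact h
  have h2 := (D.pow_eq_one_imp h1).2
  rw [← r2gord_pow_succ D] at h2
  have h3 : 0 < p ^ (n - 3) := pow_pos hp _
  have h4 : p ^ (n - 3) * p ≤ p ^ (n - 3) := Nat.le_of_dvd h3 h2
  have hp5 := D.hp5
  nlinarith

theorem GD.ww_pow (D : GD p n s S x y z) : ww p n z ^ p = 1 := by
  unfold ww
  rw [← pow_mul, r2gord_pow_succ D, D.zp]

theorem GD.ww_pow_eq_one [Finite S] (D : GD p n s S x y z) {k : ℕ} (h : ww p n z ^ k = 1) :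
    p ∣ k := by
  have hp := r2gord_ppos D
  unfold ww at h
  rw [← pow_mul] at h
  have h1 : y ^ 0 * z ^ (p ^ (n - 3) * k) = 1 := by rw [pow_zero, one_mul]; exact h
  have h2 := (D.pow_eq_one_imp h1).2
  rw [← r2gord_pow_succ D] at h2
  exact (Nat.mul_dvd_mul_iff_left (pow_pos hp _)).1 h2

end Cfsg.Agent.Helper27.R2
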