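import Mathlib
import Cfsg.Agent.Lib.R2.R2Defs
import Cfsg.Agent.Lib.R2.R2GOrd
import Cfsg.Agent.Lib.R2.R2GAbel

/-!
# R2 farm (S5289), piece R2-GIDX
|S : A| = p.  E.g.: card A = p^(n-1) via the bijection Fin p x Fin (p^(n-2)) -> A, (j,k) |-> y^j z^k (surjective by A_dec + reduction, injective by GD.inj with i = i' = 0), and card S = p^n, relIndex * card A = card S.
-/

set_option autoImplicit false
set_option linter.style.haveILetI false
set_option linter.unusedSectionVars false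
set_option linter.unusedVariables false

namespace Cfsg.Agent.Helper27.R2

open Cfsg Cfsg.FusionSystem Cfsg.Agent.Helper25 Cfsg.Agent.Helper26 Cfsg.Agent.Helper3.KL
open Cfsg.Agent.Helper3.TT Cfsg.Agent.Helper3.SC Cfsg.Agent.Helper3.OL

variable {Ω : Type*} [Group Ω] {S : Subgroup Ω} {x y z : Ω} {p n s : ℕ}


theorem GD.r2gidx_card_A [Finite S] (D : GD p n s S x y z) :
    Nat.card (AA y z) = p * p ^ (n - 2) := by
  have hp0 : 0 < p := by have := D.hp5; omega
  have hq0 : 0 < p ^ (n - 2) := Nat.pow_pos hp0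
  let f : Fin p × Fin (p ^ (n - 2)) → AA y z := fun jk =>
    ⟨y ^ (jk.1 : ℕ) * z ^ (jk.2 : ℕ),
      Subgroup.mul_mem _ (Subgroup.pow_mem _ (y_mem_AA y z) _) (Subgroup.pow_mem _ (z_mem_AA y z) _)⟩
  have hinj : Function.Injective f := by
    rintro ⟨j, k⟩ ⟨j', k'⟩ h
    have h1 : y ^ (j : ℕ) * z ^ (k : ℕ) = y ^ (j' : ℕ) * z ^ (k' : ℕ) := congrArg Subtype.val h
    have h2 : x ^ 0 * (y ^ (j : ℕ) * z ^ (k : ℕ)) = x ^ 0 * (y ^ (j' : ℕ) * z ^ (k' : ℕ)) := by
      rw [h1]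
    obtain ⟨-, hj, hk⟩ := D.inj hp0 hp0 j.2 j'.2 k.2 k'.2 h2
    exact Prod.ext (Fin.ext hj) (Fin.ext hk)
  have hsurj : Function.Surjective f := by
    rintro ⟨a, ha⟩
    obtain ⟨i, j, rfl⟩ := D.A_dec ha
    refine ⟨(⟨i % p, Nat.mod_lt _ hp0⟩, ⟨j % p ^ (n - 2), Nat.mod_lt _ hq0⟩), ?_⟩
    apply Subtype.ext
    show y ^ (i % p) * z ^ (j % p ^ (n - 2)) = y ^ i * z ^ j
    rw [← pow_eq_pow_mod i D.yp, ← pow_eq_pow_mod j D.zp]
  have := Nat.card_congr (Equiv.ofBijective f ⟨hinj, hsurj⟩)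
  rw [← this, Nat.card_prod, Nat.card_fin, Nat.card_fin]

theorem GD.relIndex_A [Finite S] (D : GD p n s S x y z) : (AA y z).relIndex S = p := by
  have hp0 : 0 < p := by have := D.hp5; omega
  have h1 : (AA y z).relIndex S * Nat.card (AA y z) = Nat.card S := by
    have := Subgroup.relIndex_mul_relIndex (H := ⊥) (K := AA y z) (L := S) bot_le D.A_le
    rw [Subgroup.relIndex_bot_left, Subgroup.relIndex_bot_left] at this
    rw [mul_comm]; exact this
  rw [D.r2gidx_card_A, D.card] at h1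
  have hn : n = (n - 2) + 2 := by have := D.hn; omega
  have h2 : p ^ n = p * (p * p ^ (n - 2)) := by
    conv_lhs => rw [hn]
    ring
  rw [h2] at h1
  exact Nat.eq_of_mul_eq_mul_right (Nat.mul_pos hp0 (Nat.pow_pos hp0)) h1

end Cfsg.Agent.Helper27.R2
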