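import Mathlib
import Cfsg.Agent.Lib.R2.R2Defs
import Cfsg.Agent.Lib.R2.R2GOrd
import Cfsg.Agent.Lib.R2.R2GIdx
import Cfsg.Agent.Lib.R2.R2GAbel
import Cfsg.Agent.Lib.R2.R2GConj

/-!
# R2 farm (S5289), piece R2-GUNIQ
x,y do not commute (else w^s = 1, so p^(n-2) | s p^(n-3), p | s); C_A(x) = <z^p> (a = y^i z^j, x^-1 a x = a => y^j w^(s i) = 1 => p | j and p | i by GD.pow_eq_one_imp); A is the only abelian subgroup of index p: if B is another one, C = A ⊓ B is central in S = <A,B> (A,B maximal), has index at most p^2 in S (Subgroup.relIndex_inf_le), so card C >= p^(n-2); but C <= C_A(x) = zpowers (z^p) which has at most p^(n-3) elements.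
-/

set_option autoImplicit false
set_option linter.style.haveILetI false
set_option linter.unusedSectionVars false
set_option linter.unusedVariables false

namespace Cfsg.Agent.Helper27.R2

open Cfsg Cfsg.FusionSystem Cfsg.Agent.Helper25 Cfsg.Agent.Helper26 Cfsg.Agent.Helper3.KL
open Cfsg.Agent.Helper3.TT Cfsg.Agent.Helper3.SC Cfsg.Agent.Helper3.OL

variable {Ω : Type*} [Group Ω] {S : Subgroup Ω} {x y z : Ω} {p n s : ℕ}


theorem r2guniq_card_mul_relIndex {G : Type*} [Group G] (H K : Subgroup G) (h : H ≤ K) :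
    Nat.card H * H.relIndex K = Nat.card K := by
  have h1 := Subgroup.card_mul_index (H.subgroupOf K)
  rw [Nat.card_congr (Subgroup.subgroupOfEquivOfLe h).toEquiv] at h1
  exact h1

theorem r2guniq_zpow_eq_ww (p n s : ℕ) (z : Ω) : z ^ (s * p ^ (n - 3)) = ww p n z ^ s := by
  unfold ww
  rw [pow_mul']

theorem GD.not_comm_xy [Finite S] (D : GD p n s S x y z) : x * y ≠ y * x := by
  intro h
  have h1 : x⁻¹ * y * x = y := by
    rw [mul_assoc, ← h, ← mul_assoc, inv_mul_cancel, one_mul]
  rw [D.xy] at h1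
  have h2 : z ^ (s * p ^ (n - 3)) = 1 := by
    have h3 : y * z ^ (s * p ^ (n - 3)) = y * 1 := by rw [h1, mul_one]
    exact mul_left_cancel h3
  rw [r2guniq_zpow_eq_ww] at h2
  exact D.hs (D.ww_pow_eq_one h2)

theorem GD.cent_A [Finite S] [Fact p.Prime] (D : GD p n s S x y z) {a : Ω} (ha : a ∈ AA y z) (hc : x * a = a * x) :
    ∃ k : ℕ, a = z ^ (p * k) := by
  have hpp : p.Prime := Fact.out
  obtain ⟨i, j, rfl⟩ := D.A_dec ha
  have h1 : x⁻¹ * (y ^ i * z ^ j) * x = y ^ i * z ^ j := by
    rw [mul_assoc, ← hc, ← mul_assoc, inv_mul_cancel, one_mul]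
  rw [D.conj_formula] at h1
  -- everything commutes
  have hyz : Commute y z := D.yz
  have hyw : Commute y (ww p n z) := by
    unfold ww
    exact hyz.pow_right _
  have hzw : Commute z (ww p n z) := by
    unfold ww
    exact (Commute.refl z).pow_right _
  have h2 : y ^ j * ww p n z ^ (s * i) = 1 := by
    have c1 : Commute (z ^ j) (y ^ j) := (hyz.pow_pow j j).symm
    have h3 : y ^ i * z ^ j * (y ^ j * ww p n z ^ (s * i))
        = y ^ (i + j) * z ^ j * ww p n z ^ (s * i) := by
      rw [pow_add]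
      calc y ^ i * z ^ j * (y ^ j * ww p n z ^ (s * i))
          = y ^ i * (z ^ j * y ^ j) * ww p n z ^ (s * i) := by simp only [mul_assoc]
        _ = y ^ i * (y ^ j * z ^ j) * ww p n z ^ (s * i) := by rw [c1.eq]
        _ = y ^ i * y ^ j * z ^ j * ww p n z ^ (s * i) := by simp only [mul_assoc]
    rw [h1] at h3
    exact mul_left_cancel (h3.trans (mul_one _).symm)
  have h4 : ww p n z ^ (s * i) = z ^ (p ^ (n - 3) * (s * i)) := by
    unfold ww
    rw [← pow_mul]
  rw [h4] at h2
  obtain ⟨hj, hk⟩ := D.pow_eq_one_imp h2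
  have hn : n - 2 = (n - 3) + 1 := by
    have := D.hn
    omega
  rw [hn, pow_succ] at hk
  have hp0 : 0 < p ^ (n - 3) := pow_pos hpp.pos _
  have hsi : p ∣ s * i := by
    rcases hk with ⟨c, hc'⟩
    refine ⟨c, ?_⟩
    have : p ^ (n - 3) * (s * i) = p ^ (n - 3) * (p * c) := by rw [hc']; ring
    exact Nat.eq_of_mul_eq_mul_left hp0 this
  have hi : p ∣ i := by
    rcases (hpp.dvd_mul).mp hsi with h5 | h5
    · exact absurd h5 D.hs
    · exact h5
  obtain ⟨i', rfl⟩ := hi
  obtain ⟨k, rfl⟩ := hj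
  refine ⟨k, ?_⟩
  rw [pow_mul, D.yp, one_pow, one_mul]

theorem GD.uniq [Finite S] [Fact p.Prime] (D : GD p n s S x y z) (B : Subgroup Ω) (hB : B ≤ S)
    (hBc : ∀ a b : B, a * b = b * a) (hBi : B.relIndex S = p) : B = AA y z := by
  have hpp : p.Prime := Fact.out
  have hAS : AA y z ≤ S := D.A_le
  have hAi : (AA y z).relIndex S = p := D.relIndex_A
  by_contra hne
  -- `S ≤ A ⊔ B`
  have hsupS : AA y z ⊔ B ≤ S := sup_le hAS hB
  have hmul := Subgroup.relIndex_mul_relIndex (AA y z) (AA y z ⊔ B) S le_sup_left hsupS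
  rw [hAi] at hmul
  have hS_le : S ≤ AA y z ⊔ B := by
    rcases (Nat.dvd_prime hpp).mp (Dvd.intro _ hmul) with h1 | h1
    · -- `B ≤ A`, then `A = B`
      exfalso
      rw [Subgroup.relIndex_eq_one] at h1
      have hBA : B ≤ AA y z := le_trans le_sup_right h1
      have hmul2 := Subgroup.relIndex_mul_relIndex B (AA y z) S hBA hAS
      rw [hAi, hBi] at hmul2
      have h2 : B.relIndex (AA y z) = 1 := by
        have hp0 : 0 < p := hpp.pos
        have : B.relIndex (AA y z) * p = 1 * p := by rw [hmul2, one_mul]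
        exact Nat.eq_of_mul_eq_mul_right hp0 this
      rw [Subgroup.relIndex_eq_one] at h2
      exact hne (le_antisymm hBA h2)
    · rw [h1] at hmul
      have hp0 : 0 < p := hpp.pos
      have h2 : (AA y z ⊔ B).relIndex S = 1 := by
        have : p * (AA y z ⊔ B).relIndex S = p * 1 := by rw [hmul, mul_one]
        exact Nat.eq_of_mul_eq_mul_left hp0 this
      exact Subgroup.relIndex_eq_one.mp h2
  -- `C = A ⊓ B` centralizes `x`
  have hCx : ∀ c ∈ AA y z ⊓ B, x * c = c * x := by
    intro c hc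
    have hA' : AA y z ≤ Subgroup.centralizer {c} := by
      intro a ha
      rw [Subgroup.mem_centralizer_iff]
      intro h hh
      rw [Set.mem_singleton_iff] at hh
      subst hh
      exact D.A_comm _ hc.1 _ ha
    have hB' : B ≤ Subgroup.centralizer {c} := by
      intro b hb
      rw [Subgroup.mem_centralizer_iff]
      intro h hh
      rw [Set.mem_singleton_iff] at hh
      subst hh
      have := hBc ⟨_, hc.2⟩ ⟨b, hb⟩
      exact congrArg Subtype.val this
    have hx : x ∈ Subgroup.centralizer {c} := (sup_le hA' hB') (hS_le D.x_mem)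
    rw [Subgroup.mem_centralizer_iff] at hx
    exact (hx c rfl).symm
  -- `C ≤ zpowers (z ^ p)`
  have hCle : AA y z ⊓ B ≤ Subgroup.zpowers (z ^ p) := by
    intro c hc
    obtain ⟨k, hk⟩ := D.cent_A hc.1 (hCx c hc)
    rw [hk, pow_mul]
    exact Subgroup.pow_mem _ (Subgroup.mem_zpowers _) _
  have hn : n - 2 = (n - 3) + 1 := by
    have := D.hn
    omega
  have hzp : (z ^ p) ^ (p ^ (n - 3)) = 1 := by
    rw [← pow_mul, mul_comm, ← pow_succ, ← hn]
    exact D.zp
  have hord : orderOf (z ^ p) ∣ p ^ (n - 3) := orderOf_dvd_of_pow_eq_one hzp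
  have hord_le : orderOf (z ^ p) ≤ p ^ (n - 3) := Nat.le_of_dvd (pow_pos hpp.pos _) hord
  have hfin : Finite (Subgroup.zpowers (z ^ p)) := by
    have hle : Subgroup.zpowers (z ^ p) ≤ S := by
      rw [Subgroup.zpowers_le]
      exact Subgroup.pow_mem _ D.z_mem _
    exact Finite.of_injective (Subgroup.inclusion hle) (Subgroup.inclusion_injective hle)
  have hCcard : Nat.card (AA y z ⊓ B : Subgroup Ω) ≤ p ^ (n - 3) := by
    calc Nat.card (AA y z ⊓ B : Subgroup Ω) ≤ Nat.card (Subgroup.zpowers (z ^ p)) :=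
          Subgroup.card_le_of_le hCle
      _ = orderOf (z ^ p) := Nat.card_zpowers _
      _ ≤ p ^ (n - 3) := hord_le
  -- but `C` has index at most `p ^ 2`
  have hCS : AA y z ⊓ B ≤ S := le_trans inf_le_left hAS
  have hidx : (AA y z ⊓ B).relIndex S ≤ p * p := by
    have := Subgroup.relIndex_inf_le (H := AA y z) (K := B) (L := S)
    rwa [hAi, hBi] at this
  have hcm := r2guniq_card_mul_relIndex (AA y z ⊓ B) S hCS
  rw [D.card] at hcm
  have hlt : p ^ n ≤ p ^ (n - 3) * (p * p) := by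
    rw [← hcm]
    exact Nat.mul_le_mul hCcard hidx
  have hn3 : n = (n - 3) + 3 := by
    have := D.hn
    omega
  have h3 : p ^ n = p ^ (n - 3) * (p * p * p) := by
    conv_lhs => rw [hn3]
    rw [pow_add]
    ring
  rw [h3] at hlt
  have hp0 : 0 < p ^ (n - 3) := pow_pos hpp.pos _
  have h4 : p * p * p ≤ p * p := Nat.le_of_mul_le_mul_left hlt hp0
  have hp2 : 2 ≤ p := hpp.two_le
  nlinarith

end Cfsg.Agent.Helper27.R2
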