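import Mathlib
import Cfsg.Agent.Lib.R2.R2Defs
import Cfsg.Agent.Lib.R2.R2GAbel
import Cfsg.Agent.Lib.R2.R2GIdx
import Cfsg.Agent.Lib.R2.R2GUniq

/-!
# R2 farm (S5289), piece R2-GOD
S = G(p,n;s) with A = <y,z> satisfies helper3's structure OL.OD (Lib/Helper3/OliverA1.lean): pg from D.card (IsPGroup.of_card), le = D.A_le, comm from A_comm, idx = relIndex_A, nab from not_comm_xy, uniq = GD.uniq.
-/

set_option autoImplicit false
set_option linter.style.haveILetI false
set_option linter.unusedSectionVars false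
set_option linter.unusedVariables false

namespace Cfsg.Agent.Helper27.R2

open Cfsg Cfsg.FusionSystem Cfsg.Agent.Helper25 Cfsg.Agent.Helper26 Cfsg.Agent.Helper3.KL
open Cfsg.Agent.Helper3.TT Cfsg.Agent.Helper3.SC Cfsg.Agent.Helper3.OL

variable {Ω : Type*} [Group Ω] {S : Subgroup Ω} {x y z : Ω} {p n s : ℕ}


theorem GD.od [Finite S] [Fact p.Prime] (D : GD p n s S x y z) : OD p S (AA y z) := by
  refine ⟨IsPGroup.of_card D.card, D.A_le, ?_, D.relIndex_A, ?_, D.uniq⟩
  · intro a b
    exact Subtype.ext (D.A_comm a a.2 b b.2)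
  · intro h
    have h1 := h ⟨x, D.x_mem⟩ ⟨y, D.y_mem⟩
    exact D.not_comm_xy (congrArg Subtype.val h1)

end Cfsg.Agent.Helper27.R2
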