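import Mathlib
import Cfsg.Agent.Lib.R2.R2Defs
import Cfsg.Agent.Lib.R2.R2AutA
import Cfsg.Agent.Lib.R2.R2GAbel
import Cfsg.Agent.Lib.R2.R2GConj
import Cfsg.Agent.Lib.R2.R2GOrd
import Cfsg.Agent.Lib.R2.R2GOD

/-!
# R2 farm (S5289), piece R2-GAUTX
no automorphism of S = G(p,n;s) squares x modulo A (p >= 5).  Write sigma(x) = x^2 a0 (a0 in A), t = sigma(z) = y^i z^b in A (od_aut_mem, A_dec), q = p^(n-3).  For c in A: sigma(x^-1 c x) = (x^2)^-1 sigma(c) x^2 (a0 and sigma(c) lie in the abelian normal A).  (1) y = x^-1 z x z^-1 gives sigma(y) = ((x^2)^-1 t x^2) t^-1 = y^(2b) w^(s(2i+b)) by conj2_formula.  (2) sigma(w) = t^q = w^b.  (3) apply sigma to x^-1 y x = y w^s:  (x^2)^-1 sigma(y) x^2 = sigma(y) sigma(w)^s;  LHS = y^(2b) w^(4 s b) w^(s(2i+b)) (conj2_formula with (i,j) = (2b,0), w central), so w^(4 s b) = w^(s b), w^(3 s b) = 1, p | 3 s b (ww_pow_eq_one), p | b (p >= 5 prime, p does not divide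 s).  (4) then sigma(w) = w^b = 1 (ww_pow), so w = 1, contradicting ww_ne_one.
-/

set_option autoImplicit false
set_option linter.style.haveILetI false
set_option linter.unusedSectionVars false
set_option linter.unusedVariables false

namespace Cfsg.Agent.Helper27.R2

open Cfsg Cfsg.FusionSystem Cfsg.Agent.Helper25 Cfsg.Agent.Helper26 Cfsg.Agent.Helper3.KL
open Cfsg.Agent.Helper3.TT Cfsg.Agent.Helper3.SC Cfsg.Agent.Helper3.OL

variable {Ω : Type*} [Group Ω] {S : Subgroup Ω} {x y z : Ω} {p n s : ℕ}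

/-- `y ^ (p ^ (n-3) * c) = 1` -/
theorem GD.r2gautx_y_pow (D : GD p n s S x y z) (c : ℕ) : y ^ (p ^ (n - 3) * c) = 1 := by
  have h : p ^ (n - 3) = p * p ^ (n - 4) := by
    rw [← pow_succ']
    congr 1
    have := D.hn
    omega
  rw [h, mul_assoc, pow_mul, D.yp, one_pow]

/-- `(y^i z^b)^(q c) = w^(b c)` -/
theorem GD.r2gautx_t_pow (D : GD p n s S x y z) (i b c : ℕ) :
    (y ^ i * z ^ b) ^ (p ^ (n - 3) * c) = ww p n z ^ (b * c) := by
  have hc : Commute (y ^ i) (z ^ b) := (show Commute y z from D.yz).pow_pow i b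
  rw [hc.mul_pow, ← pow_mul, ← pow_mul]
  have h1 : i * (p ^ (n - 3) * c) = p ^ (n - 3) * (i * c) := by ring
  rw [h1, D.r2gautx_y_pow, one_mul]
  unfold ww
  rw [← pow_mul]
  congr 1
  ring

/-- conjugation by `x ^ 2` fixes the powers of `w` -/
theorem GD.r2gautx_conj2_ww (D : GD p n s S x y z) (k : ℕ) :
    (x ^ 2)⁻¹ * ww p n z ^ k * x ^ 2 = ww p n z ^ k := by
  have h1 : x⁻¹ * ww p n z * x = ww p n z := D.conj_ww
  have h2 : Commute x (ww p n z) := by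
    show x * ww p n z = ww p n z * x
    have := congrArg (fun g => x * g) h1
    simp only [mul_assoc, mul_inv_cancel_left] at this
    exact this.symm
  have h3 : Commute (x ^ 2) (ww p n z ^ k) := h2.pow_pow 2 k
  have h4 : ww p n z ^ k * x ^ 2 = x ^ 2 * ww p n z ^ k := h3.eq.symm
  rw [mul_assoc, h4, inv_mul_cancel_left]

/-- conjugation by `x ^ 2` maps `A` into `A` -/
theorem GD.r2gautx_conj2_mem (D : GD p n s S x y z) {c : Ω} (hc : c ∈ AA y z) :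
    (x ^ 2)⁻¹ * c * x ^ 2 ∈ AA y z := by
  obtain ⟨i, j, rfl⟩ := D.A_dec hc
  rw [D.conj2_formula]
  exact Subgroup.mul_mem _ (Subgroup.mul_mem _ (Subgroup.pow_mem _ (y_mem_AA y z) _)
    (Subgroup.pow_mem _ (z_mem_AA y z) _)) (Subgroup.pow_mem _ (ww_mem_AA p n y z) _)

theorem GD.no_square_aut_x [Finite S] [Fact p.Prime] (D : GD p n s S x y z) (σ : MulAut S)
    (h : (x ^ 2)⁻¹ * ((σ ⟨x, D.x_mem⟩ : S) : Ω) ∈ AA y z) : False := by
  have hp : p.Prime := Fact.out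
  have hod := D.od
  have hyz : Commute y z := D.yz
  have hwmem : ww p n z ∈ AA y z := ww_mem_AA p n y z
  -- the map `f = S.subtype ∘ σ`
  set f : S →* Ω := S.subtype.comp σ.toMonoidHom with hf
  have hfinj : Function.Injective f := by
    intro a b hab
    exact σ.injective (Subtype.ext hab)
  have hfA : ∀ (a : Ω) (ha : a ∈ AA y z), f ⟨a, D.A_le ha⟩ ∈ AA y z :=
    fun a ha => od_aut_mem hod σ ha
  set X : Ω := f ⟨x, D.x_mem⟩ with hX
  have h' : (x ^ 2)⁻¹ * X ∈ AA y z := h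
  set a0 : Ω := (x ^ 2)⁻¹ * X with ha0
  have hXeq : X = x ^ 2 * a0 := by rw [ha0, mul_inv_cancel_left]
  -- conjugation by `X` on `A` is conjugation by `x ^ 2`
  have hL1 : ∀ c ∈ AA y z, X⁻¹ * c * X = (x ^ 2)⁻¹ * c * x ^ 2 := by
    intro c hc
    have hc' := D.r2gautx_conj2_mem hc
    have hcomm : (x ^ 2)⁻¹ * c * x ^ 2 * a0 = a0 * ((x ^ 2)⁻¹ * c * x ^ 2) :=
      D.A_comm _ hc' _ h'
    rw [hXeq, mul_inv_rev]
    calc a0⁻¹ * (x ^ 2)⁻¹ * c * (x ^ 2 * a0)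
        = a0⁻¹ * ((x ^ 2)⁻¹ * c * x ^ 2 * a0) := by simp only [mul_assoc]
      _ = a0⁻¹ * (a0 * ((x ^ 2)⁻¹ * c * x ^ 2)) := by rw [hcomm]
      _ = (x ^ 2)⁻¹ * c * x ^ 2 := by rw [inv_mul_cancel_left]
  -- `t = σ z`
  set t : Ω := f ⟨z, D.z_mem⟩ with ht
  have htA : t ∈ AA y z := hfA z (z_mem_AA y z)
  obtain ⟨i, b, htib⟩ := D.A_dec htA
  set k : ℕ := s * (2 * i + b) with hk
  -- (1) `σ y`
  set Y : Ω := f ⟨y, D.y_mem⟩ with hY
  have hYA : Y ∈ AA y z := hfA y (y_mem_AA y z)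
  have hyrel : (⟨y, D.y_mem⟩ : S) =
      (⟨x, D.x_mem⟩ : S)⁻¹ * ⟨z, D.z_mem⟩ * ⟨x, D.x_mem⟩ * (⟨z, D.z_mem⟩ : S)⁻¹ := by
    apply Subtype.ext
    show y = x⁻¹ * z * x * z⁻¹
    rw [D.xz, mul_inv_cancel_right]
  have hY1 : Y = X⁻¹ * t * X * t⁻¹ := by
    rw [hY, hyrel, map_mul, map_mul, map_mul, map_inv, map_inv]
  have hEt : (x ^ 2)⁻¹ * t * x ^ 2 = y ^ (2 * b) * ww p n z ^ k * t := by
    rw [htib, D.conj2_formula]
    have hw : ww p n z ^ k = z ^ (p ^ (n - 3) * k) := (pow_mul z (p ^ (n - 3)) k).symm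
    rw [hw]
    have c1 : Commute (z ^ (p ^ (n - 3) * k)) (y ^ i) := (hyz.pow_pow i _).symm
    calc y ^ (i + 2 * b) * z ^ b * z ^ (p ^ (n - 3) * k)
        = y ^ (2 * b) * (y ^ i * (z ^ b * z ^ (p ^ (n - 3) * k))) := by
          rw [add_comm, pow_add]; simp only [mul_assoc]
      _ = y ^ (2 * b) * (y ^ i * (z ^ (p ^ (n - 3) * k) * z ^ b)) := by
          rw [← pow_add, ← pow_add, add_comm]
      _ = y ^ (2 * b) * (z ^ (p ^ (n - 3) * k) * y ^ i * z ^ b) := by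
          rw [← mul_assoc (y ^ i), ← c1.eq]
      _ = y ^ (2 * b) * z ^ (p ^ (n - 3) * k) * (y ^ i * z ^ b) := by simp only [mul_assoc]
  have hY2 : Y = y ^ (2 * b) * ww p n z ^ k := by
    rw [hY1, hL1 t htA, hEt, mul_inv_cancel_right]
  -- (3) apply `σ` to `x⁻¹ y x = y z^(s q)`
  have hrel3 : (⟨x, D.x_mem⟩ : S)⁻¹ * ⟨y, D.y_mem⟩ * ⟨x, D.x_mem⟩ =
      ⟨y, D.y_mem⟩ * (⟨z, D.z_mem⟩ : S) ^ (s * p ^ (n - 3)) := by
    apply Subtype.ext
    show x⁻¹ * y * x = y * z ^ (s * p ^ (n - 3))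
    exact D.xy
  have h3 : X⁻¹ * Y * X = Y * t ^ (s * p ^ (n - 3)) := by
    have := congrArg f hrel3
    rw [map_mul, map_mul, map_inv, map_mul, map_pow] at this
    exact this
  have htpow : t ^ (s * p ^ (n - 3)) = ww p n z ^ (b * s) := by
    rw [htib, mul_comm s, D.r2gautx_t_pow]
  rw [hL1 Y hYA, htpow] at h3
  -- compute the left side
  have hEY : (x ^ 2)⁻¹ * Y * x ^ 2 =
      y ^ (2 * b) * ww p n z ^ (s * (2 * (2 * b))) * ww p n z ^ k := by
    rw [hY2]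
    have e1 : (x ^ 2)⁻¹ * (y ^ (2 * b) * ww p n z ^ k) * x ^ 2 =
        ((x ^ 2)⁻¹ * (y ^ (2 * b) * z ^ 0) * x ^ 2) * ((x ^ 2)⁻¹ * ww p n z ^ k * x ^ 2) := by
      rw [pow_zero, mul_one]
      simp only [mul_assoc, mul_inv_cancel_left]
    rw [e1, D.conj2_formula, D.r2gautx_conj2_ww, pow_zero, mul_one, mul_zero, add_zero, add_zero]
  rw [hEY, hY2] at h3
  -- cancel
  have h4 : ww p n z ^ (s * (2 * (2 * b))) * ww p n z ^ k = ww p n z ^ k * ww p n z ^ (b * s) := by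
    have := h3
    rw [mul_assoc, mul_assoc] at this
    exact mul_left_cancel this
  rw [← pow_add, ← pow_add] at h4
  have h5 : s * (2 * (2 * b)) + k = 3 * s * b + (k + b * s) := by ring
  rw [h5, pow_add] at h4
  have h6 : ww p n z ^ (3 * s * b) = 1 := mul_eq_right.mp h4
  have h7 : p ∣ 3 * s * b := D.ww_pow_eq_one h6
  have hpb : p ∣ b := by
    rcases (Nat.Prime.dvd_mul hp).mp h7 with h8 | h8
    · rcases (Nat.Prime.dvd_mul hp).mp h8 with h9 | h9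
      · exfalso
        have := Nat.le_of_dvd (by norm_num) h9
        have := D.hp5
        omega
      · exact absurd h9 D.hs
    · exact h8
  -- (4) `σ w = 1`
  have hfw : f ((⟨z, D.z_mem⟩ : S) ^ (p ^ (n - 3))) = 1 := by
    rw [map_pow]
    show t ^ (p ^ (n - 3)) = 1
    have := D.r2gautx_t_pow i b 1
    rw [mul_one, mul_one] at this
    rw [htib, this]
    obtain ⟨c, rfl⟩ := hpb
    rw [pow_mul, D.ww_pow, one_pow]
  have hzq : (⟨z, D.z_mem⟩ : S) ^ (p ^ (n - 3)) = 1 := by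
    apply hfinj
    rw [hfw, map_one]
  have hw1 : ww p n z = 1 := by
    have := congrArg Subtype.val hzq
    simpa [ww] using this
  exact D.ww_ne_one hw1

end Cfsg.Agent.Helper27.R2
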