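import Mathlib
import Cfsg.Agent.Lib.R2.R2Defs
import Cfsg.Agent.Lib.R2.R2AutA
import Cfsg.Agent.Lib.R2.R2GAutX
import Cfsg.Agent.Lib.R2.R2GOD

/-!
# R2 farm (S5289), piece R2-GAUTRED
reduction to x.  subst hN.  x = a * x'^k with a in A (OD.exists_mul_pow for the element x' outside A).  In the quotient of S by the normal subgroup A (OD.norm; or elementwise using that A is normal and sigma(A) = A by od_aut_mem):  sigma(x) = sigma(a) sigma(x')^k is congruent to (x'^2)^k = (x'^k)^2 congruent to x^2 modulo A.  Then GD.no_square_aut_x.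
-/

set_option autoImplicit false
set_option linter.style.haveILetI false
set_option linter.unusedSectionVars false
set_option linter.unusedVariables false

namespace Cfsg.Agent.Helper27.R2

open Cfsg Cfsg.FusionSystem Cfsg.Agent.Helper25 Cfsg.Agent.Helper26 Cfsg.Agent.Helper3.KL
open Cfsg.Agent.Helper3.TT Cfsg.Agent.Helper3.SC Cfsg.Agent.Helper3.OL

variable {Ω : Type*} [Group Ω] {S : Subgroup Ω} {x y z : Ω} {p n s : ℕ}


theorem GD.no_square_aut [Finite S] [Fact p.Prime] (D : GD p n s S x y z) (N : Subgroup Ω)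
    (hN : N = S) (σ : MulAut N) {x' : Ω} (hx' : x' ∈ N) (hx'A : x' ∉ AA y z)
    (h : (x' ^ 2)⁻¹ * ((σ ⟨x', hx'⟩ : N) : Ω) ∈ AA y z) : False := by
  subst hN
  have O : OD p N (AA y z) := D.od
  haveI hnorm : ((AA y z).subgroupOf N).Normal :=
    (Subgroup.normal_subgroupOf_iff_le_normalizer O.le).mpr O.norm
  obtain ⟨a, ha, k, hk⟩ := O.exists_mul_pow hx' hx'A D.x_mem
  apply D.no_square_aut_x σ
  -- work in the quotient
  have e0 : (⟨x, D.x_mem⟩ : N) = ⟨a, O.le ha⟩ * ⟨x', hx'⟩ ^ k := by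
    apply Subtype.ext
    simp only [Subgroup.coe_mul, Subgroup.coe_pow]
    exact hk
  have h1 : (QuotientGroup.mk' ((AA y z).subgroupOf N)) (σ ⟨x', hx'⟩) =
      (QuotientGroup.mk' ((AA y z).subgroupOf N)) ⟨x', hx'⟩ ^ 2 := by
    rw [← map_pow]
    symm
    apply QuotientGroup.eq.2
    rw [Subgroup.mem_subgroupOf]
    simpa using h
  have h2 : (QuotientGroup.mk' ((AA y z).subgroupOf N)) ⟨a, O.le ha⟩ = 1 := by
    apply (QuotientGroup.eq_one_iff _).2
    rw [Subgroup.mem_subgroupOf]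
    exact ha
  have h3 : (QuotientGroup.mk' ((AA y z).subgroupOf N)) (σ ⟨a, O.le ha⟩) = 1 := by
    apply (QuotientGroup.eq_one_iff _).2
    rw [Subgroup.mem_subgroupOf]
    exact od_aut_mem O σ ha
  have h4 : (QuotientGroup.mk' ((AA y z).subgroupOf N))
      ((⟨x, D.x_mem⟩ ^ 2 : N)⁻¹ * σ ⟨x, D.x_mem⟩) = 1 := by
    rw [e0]
    simp only [map_mul, map_pow, map_inv]
    rw [h1, h2, h3, one_mul, one_mul, ← pow_mul, ← pow_mul, mul_comm k 2, inv_mul_cancel]
  have h5 := (QuotientGroup.eq_one_iff _).1 h4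
  rw [Subgroup.mem_subgroupOf] at h5
  simpa using h5

end Cfsg.Agent.Helper27.R2
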