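import Mathlib
import Cfsg.Agent.Lib.R2.R2Defs
import Cfsg.Agent.Lib.R2.R2GAbel
import Cfsg.Agent.Lib.R2.R2GConj

/-!
# R2 farm (S5289), piece R2-GLCS
S has class at most 3.  [S,S] <= B2 := closure {y, w} (B2 is normal in S: x^-1 y x = y w^s, w central by conj_ww and commutativity of A; S/B2 is abelian since the generators x,y,z commute modulo B2: x^-1 z x z^-1 = y); [B2,S] <= zpowers w (x^-1 y x y^-1 = w^s; y,z centralize B2); [zpowers w, S] = 1.  Use Subgroup.lowerCentralSeries_succ and Subgroup.commutator_le / closure induction.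
-/

set_option autoImplicit false
set_option linter.style.haveILetI false
set_option linter.unusedSectionVars false
set_option linter.unusedVariables false

namespace Cfsg.Agent.Helper27.R2

open Cfsg Cfsg.FusionSystem Cfsg.Agent.Helper25 Cfsg.Agent.Helper26 Cfsg.Agent.Helper3.KL
open Cfsg.Agent.Helper3.TT Cfsg.Agent.Helper3.SC Cfsg.Agent.Helper3.OL
open scoped commutatorElement

variable {Ω : Type*} [Group Ω] {S : Subgroup Ω} {x y z : Ω} {p n s : ℕ}


/-- commutators of two generated subgroups lie in a subgroup `N` normalized by an overgroup `S'`, as soon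
as the commutators of the generators do -/
theorem glcs_comm_closure {N S' : Subgroup Ω} (hN : ∀ g ∈ S', ∀ u ∈ N, g * u * g⁻¹ ∈ N)
    {T1 T2 : Set Ω} (h1 : Subgroup.closure T1 ≤ S') (h2 : Subgroup.closure T2 ≤ S')
    (hgen : ∀ a ∈ T1, ∀ b ∈ T2, ⁅a, b⁆ ∈ N) :
    ∀ g ∈ Subgroup.closure T1, ∀ h ∈ Subgroup.closure T2, ⁅g, h⁆ ∈ N := by
  have step1 : ∀ h ∈ T2, ∀ g ∈ Subgroup.closure T1, ⁅g, h⁆ ∈ N := by
    intro h hh g hg
    induction hg using Subgroup.closure_induction with
    | mem a ha => exact hgen a ha h hh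
    | one =>
      rw [commutatorElement_one_left]
      exact one_mem _
    | mul a b ha hb iha ihb =>
      have e : ⁅a * b, h⁆ = a * ⁅b, h⁆ * a⁻¹ * ⁅a, h⁆ := by
        simp only [commutatorElement_def]
        group
      rw [e]
      exact mul_mem (hN a (h1 ha) _ ihb) iha
    | inv a ha iha =>
      have e : ⁅a⁻¹, h⁆ = a⁻¹ * ⁅a, h⁆⁻¹ * a⁻¹⁻¹ := by
        simp only [commutatorElement_def]
        group
      rw [e]
      exact hN a⁻¹ (inv_mem (h1 ha)) _ (inv_mem iha)
  intro g hg h hh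
  induction hh using Subgroup.closure_induction with
  | mem b hb => exact step1 b hb g hg
  | one =>
    rw [commutatorElement_one_right]
    exact one_mem _
  | mul a b ha hb iha ihb =>
    have e : ⁅g, a * b⁆ = ⁅g, a⁆ * (a * ⁅g, b⁆ * a⁻¹) := by
      simp only [commutatorElement_def]
      group
    rw [e]
    exact mul_mem iha (hN a (h2 ha) _ ihb)
  | inv a ha iha =>
    have e : ⁅g, a⁻¹⁆ = a⁻¹ * ⁅g, a⁆⁻¹ * a⁻¹⁻¹ := by
      simp only [commutatorElement_def]
      group
    rw [e]
    exact hN a⁻¹ (inv_mem (h2 ha)) _ (inv_mem iha)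

theorem GD.ww_central (D : GD p n s S x y z) : ∀ g ∈ S, g * ww p n z = ww p n z * g := by
  have hle : S ≤ Subgroup.centralizer {ww p n z} := by
    rw [← D.gen, Subgroup.closure_le]
    rintro g (rfl | rfl | rfl)
    · rw [SetLike.mem_coe, Subgroup.mem_centralizer_iff]
      rintro h (rfl : h = _)
      have h1 := D.conj_ww
      calc ww p n z * g = g * (g⁻¹ * ww p n z * g) := by group
        _ = g * ww p n z := by rw [h1]
    · rw [SetLike.mem_coe, Subgroup.mem_centralizer_iff]
      rintro h (rfl : h = _)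
      exact D.A_comm _ (ww_mem_AA p n g z) _ (y_mem_AA g z)
    · rw [SetLike.mem_coe, Subgroup.mem_centralizer_iff]
      rintro h (rfl : h = _)
      exact D.A_comm _ (ww_mem_AA p n y g) _ (z_mem_AA y g)
  intro g hg
  exact (Subgroup.mem_centralizer_iff.1 (hle hg) (ww p n z) rfl).symm

theorem GD.lcs3 (D : GD p n s S x y z) : S.lowerCentralSeries 3 = ⊥ := by
  have hwS : ww p n z ∈ S := D.A_le (ww_mem_AA p n y z)
  have hwc := D.ww_central
  have hWc : ∀ u ∈ Subgroup.zpowers (ww p n z), ∀ g ∈ S, g * u = u * g := by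
    intro u hu g hg
    obtain ⟨k, rfl⟩ := Subgroup.mem_zpowers_iff.1 hu
    have hc : Commute g (ww p n z) := hwc g hg
    exact (hc.zpow_right k).eq
  have hWS : Subgroup.zpowers (ww p n z) ≤ S := Subgroup.zpowers_le.2 hwS
  have hB2S : Subgroup.closure {y, ww p n z} ≤ S := by
    rw [Subgroup.closure_le]
    rintro g (rfl | rfl)
    · exact D.y_mem
    · exact hwS
  have hWB : Subgroup.zpowers (ww p n z) ≤ Subgroup.closure {y, ww p n z} :=
    Subgroup.zpowers_le.2 (Subgroup.subset_closure (by simp))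
  have hyB : y ∈ Subgroup.closure {y, ww p n z} := Subgroup.subset_closure (by simp)
  have hgenS : Subgroup.closure {x, y, z} ≤ S := D.gen.le
  have hwsW : ww p n z ^ s ∈ Subgroup.zpowers (ww p n z) := Subgroup.npow_mem_zpowers _ _
  have hxy : x⁻¹ * y * x = y * ww p n z ^ s := by
    have h1 := D.xy
    have e : z ^ (s * p ^ (n - 3)) = ww p n z ^ s := by
      unfold ww
      rw [← pow_mul, mul_comm]
    rwa [e] at h1
  have hyx : ⁅y, x⁆ = ww p n z ^ s := by
    have c1 : y * ww p n z ^ s = ww p n z ^ s * y := hWc _ hwsW y D.y_mem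
    have c2 : x * ww p n z ^ s = ww p n z ^ s * x := hWc _ hwsW x D.x_mem
    calc ⁅y, x⁆ = x * (x⁻¹ * y * x) * y⁻¹ * x⁻¹ := by
          rw [commutatorElement_def]
          group
      _ = x * (y * ww p n z ^ s) * y⁻¹ * x⁻¹ := by rw [hxy]
      _ = x * (ww p n z ^ s * y) * y⁻¹ * x⁻¹ := by rw [c1]
      _ = x * ww p n z ^ s * x⁻¹ := by group
      _ = ww p n z ^ s * x * x⁻¹ := by rw [c2]
      _ = ww p n z ^ s := by group
  have hcomm1 : ∀ a b : Ω, a * b = b * a → ⁅a, b⁆ = 1 := fun a b h =>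
    commutatorElement_eq_one_iff_mul_comm.2 h
  -- Step 2: `⁅B2, S⁆ ≤ W`
  have hN2 : ∀ g ∈ S, ∀ u ∈ Subgroup.zpowers (ww p n z), g * u * g⁻¹ ∈ Subgroup.zpowers (ww p n z) := by
    intro g hg u hu
    rw [hWc u hu g hg, mul_inv_cancel_right]
    exact hu
  have step2 : ∀ g ∈ Subgroup.closure {y, ww p n z}, ∀ h ∈ Subgroup.closure {x, y, z},
      ⁅g, h⁆ ∈ Subgroup.zpowers (ww p n z) := by
    refine glcs_comm_closure hN2 hB2S hgenS ?_
    rintro a (rfl | rfl) b (rfl | rfl | rfl)
    · rw [hyx]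
      exact hwsW
    · rw [commutatorElement_self]
      exact one_mem _
    · rw [hcomm1 _ _ D.yz]
      exact one_mem _
    · rw [hcomm1 _ _ (hwc b D.x_mem).symm]
      exact one_mem _
    · rw [hcomm1 _ _ (hwc b D.y_mem).symm]
      exact one_mem _
    · rw [hcomm1 _ _ (hwc b D.z_mem).symm]
      exact one_mem _
  -- Step 1: `⁅S, S⁆ ≤ B2`
  have hN1 : ∀ g ∈ S, ∀ b ∈ Subgroup.closure {y, ww p n z},
      g * b * g⁻¹ ∈ Subgroup.closure {y, ww p n z} := by
    intro g hg b hb
    have h1 := step2 b hb g (by rw [D.gen]; exact hg)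
    have e : g * b * g⁻¹ = ⁅b, g⁆⁻¹ * b := by
      simp only [commutatorElement_def]
      group
    rw [e]
    exact mul_mem (inv_mem (hWB h1)) hb
  have hzx : ⁅z, x⁆ ∈ Subgroup.closure {y, ww p n z} := by
    have e : ⁅z, x⁆ = x * y * x⁻¹ := by
      calc ⁅z, x⁆ = x * (x⁻¹ * z * x) * z⁻¹ * x⁻¹ := by
            rw [commutatorElement_def]
            group
        _ = x * (y * z) * z⁻¹ * x⁻¹ := by rw [D.xz]
        _ = x * y * x⁻¹ := by group
    rw [e]
    exact hN1 x D.x_mem y hyB
  have hyxB : ⁅y, x⁆ ∈ Subgroup.closure {y, ww p n z} := by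
    rw [hyx]
    exact hWB hwsW
  have step1 : ∀ g ∈ Subgroup.closure {x, y, z}, ∀ h ∈ Subgroup.closure {x, y, z},
      ⁅g, h⁆ ∈ Subgroup.closure {y, ww p n z} := by
    refine glcs_comm_closure hN1 hgenS hgenS ?_
    rintro a (rfl | rfl | rfl) b (rfl | rfl | rfl)
    · rw [commutatorElement_self]
      exact one_mem _
    · rw [← commutatorElement_inv]
      exact inv_mem hyxB
    · rw [← commutatorElement_inv]
      exact inv_mem hzx
    · exact hyxB
    · rw [commutatorElement_self]
      exact one_mem _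
    · rw [hcomm1 _ _ D.yz]
      exact one_mem _
    · exact hzx
    · rw [hcomm1 _ _ D.yz.symm]
      exact one_mem _
    · rw [commutatorElement_self]
      exact one_mem _
  -- assembly
  have hL1 : S.lowerCentralSeries 1 ≤ Subgroup.closure {y, ww p n z} := by
    rw [Subgroup.lowerCentralSeries_succ, Subgroup.lowerCentralSeries_zero, Subgroup.commutator_le]
    intro g hg h hh
    exact step1 g (by rw [D.gen]; exact hg) h (by rw [D.gen]; exact hh)
  have hL2 : S.lowerCentralSeries 2 ≤ Subgroup.zpowers (ww p n z) := by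
    rw [Subgroup.lowerCentralSeries_succ, Subgroup.commutator_le]
    intro g hg h hh
    exact step2 g (hL1 hg) h (by rw [D.gen]; exact hh)
  rw [eq_bot_iff, Subgroup.lowerCentralSeries_succ, Subgroup.commutator_le]
  intro g hg h hh
  rw [Subgroup.mem_bot]
  exact hcomm1 _ _ (hWc g (hL2 hg) h hh).symm

end Cfsg.Agent.Helper27.R2
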