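import Mathlib
import Cfsg.Agent.Lib.R2.R2Defs
import Cfsg.Agent.Lib.R2.R2BrMain
import Cfsg.Agent.Lib.R2.R2GOD
import Cfsg.Agent.Lib.R2.R2GLcs
import Cfsg.Agent.Lib.R2.R2GAutRed

/-!
# R2 farm (S5289), piece R2-EXNONAB
G(p,n;s): every essential subgroup is abelian.  Let P be essential and nonabelian, D' = D.od; P != A (A abelian).  OL.essential_cases (Lib/Helper3/OliverB5.lean) gives x' in P outside A, |N_S(P):P| = p and A ⊓ P = K D' hx' 2.  Then A ⊓ N_S(P) = K D' hx' 3 (OL.inf_normalizerIn) = A (K_eq_A_iff, mem_Kf_iff, phi_iter_mem_lcs with GD.lcs3), so A <= N_S(P) and N_S(P) = S (OD.eq_top).  exists_torus_aut gives delta; P is receptive (of_fullyNormalized), so Helper25's exists_autGroup_normalizerIn_extension extends delta to sigma in Aut_F(N_S(P)) with sigma x' = delta x' congruent to x'^2 mod A: contradiction with GD.no_square_aut (N = N_S(P)).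
-/

set_option autoImplicit false
set_option linter.style.haveILetI false
set_option linter.unusedSectionVars false
set_option linter.unusedVariables false

namespace Cfsg.Agent.Helper27.R2

open Cfsg Cfsg.FusionSystem Cfsg.Agent.Helper25 Cfsg.Agent.Helper26 Cfsg.Agent.Helper3.KL
open Cfsg.Agent.Helper3.TT Cfsg.Agent.Helper3.SC Cfsg.Agent.Helper3.OL

variable {Ω : Type*} [Group Ω] {S : Subgroup Ω} {x y z : Ω} {p n s : ℕ}


/-- `K 3 = A` for a group of class at most three -/
theorem exnonab_K3 [Finite S] [Fact p.Prime] {A : Subgroup Ω} (D' : OD p S A)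
    (hlcs : S.lowerCentralSeries 3 = ⊥) {x' : Ω} (hx' : x' ∈ S) : K D' hx' 3 = A := by
  rw [K_eq_A_iff]
  apply top_unique
  intro a _
  rw [mem_Kf_iff]
  have h1 := phi_iter_mem_lcs D' hx' 3 a
  rw [hlcs, Subgroup.mem_bot] at h1
  exact Subtype.ext h1

theorem GD.essential_abelian [Finite S] [Fact p.Prime] (D : GD p n s S x y z) (hS : IsPGroup p S)
    {F : FusionSystem S} (hF : F.IsSaturated p) {P : Subgroup Ω} (hP : F.IsEssential p P) :
    ∀ u v : P, u * v = v * u := by
  by_contra hnab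
  have D' : OD p S (AA y z) := D.od
  have hPS : P ≤ S := hP.1.1
  have hPA : P ≠ AA y z := by
    rintro rfl
    apply hnab
    intro u v
    apply Subtype.ext
    exact D'.comm' u.2 v.2
  obtain ⟨x', hx', hx'A, hx'P, h12, hN, hcase⟩ := essential_cases hF D' hP hPA
  rcases hcase with ⟨-, -, hab⟩ | ⟨-, hi, -⟩
  · exact hnab hab
  have hNi := inf_normalizerIn D' hx' hx'A hPS hx'P hi
  rw [exnonab_K3 D' D.lcs3 hx'] at hNi
  have hAN : AA y z ≤ normalizerIn S P := by
    rw [← hNi]; exact inf_le_right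
  have hx'N : x' ∈ normalizerIn S P := le_normalizerIn hPS hx'P
  have hNS : normalizerIn S P = S := D'.eq_top hAN normalizerIn_le hx'N hx'A
  have hPA' : ¬ P ≤ AA y z := fun h => hx'A (h hx'P)
  obtain ⟨δ, hδ, hnorm, hact⟩ := exists_torus_aut D.hp5 hS hF D' hP hPA' hN
  obtain ⟨-, -, hrec⟩ := of_fullyNormalized p hS F hF hP.2.1
  obtain ⟨σ, -, hσ⟩ := exists_autGroup_normalizerIn_extension F hrec hδ hnorm
  refine D.no_square_aut (normalizerIn S P) hNS σ hx'N hx'A ?_
  have h1 := hσ ⟨x', hx'P⟩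
  have h2 := hact ⟨x', hx'P⟩
  have h3 : ((σ ⟨x', hx'N⟩ : ↥(normalizerIn S P)) : Ω) = ((δ ⟨x', hx'P⟩ : P) : Ω) := h1
  rw [h3]
  exact h2

end Cfsg.Agent.Helper27.R2
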