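import Mathlib
import Cfsg.Agent.Lib.R2.R2Defs

/-!
# R2 farm (S5289), piece R2-STAB2
two-step version of helper3's OL.mem_of_stab (Lib/Helper3/OliverB1.lean, follow its proof): the set C of alpha in Aut_F(P) fixing W1 pointwise, with alpha v v^-1 in W1 for v in W2 and alpha e e^-1 in W2 for all e, is a subgroup of Aut_F(P), normal in it (W1, W2 invariant), and a p-group (alpha restricted to W2 lies in stab of W1 inside W2, a p-group by isPGroup_stab'; so some alpha^(p^k) is trivial on W2, hence lies in stab W2, again a p-group).  Then le_inn_of_normal and mem_of_kapN_mem_inn.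
-/

set_option autoImplicit false
set_option linter.style.haveILetI false
set_option linter.unusedSectionVars false
set_option linter.unusedVariables false

namespace Cfsg.Agent.Helper27.R2

open Cfsg Cfsg.FusionSystem Cfsg.Agent.Helper25 Cfsg.Agent.Helper26 Cfsg.Agent.Helper3.KL
open Cfsg.Agent.Helper3.TT Cfsg.Agent.Helper3.SC Cfsg.Agent.Helper3.OL

variable {Ω : Type*} [Group Ω] {S : Subgroup Ω} {x y z : Ω} {p n s : ℕ}


/-- the stabilizer of the chain `1 ≤ W₁ ≤ W₂ ≤ X` -/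
def r2stab2_C {X : Type*} [Group X] (W₁ W₂ : Subgroup X) (h12 : W₁ ≤ W₂) :
    Subgroup (MulAut X) where
  carrier := {h | (∀ w ∈ W₁, h w = w) ∧ (∀ v ∈ W₂, h v * v⁻¹ ∈ W₁) ∧ ∀ e, h e * e⁻¹ ∈ W₂}
  one_mem' := ⟨fun _ _ => rfl, fun v _ => by simp, fun e => by simp⟩
  mul_mem' := by
    rintro a b ⟨ha1, ha2, ha3⟩ ⟨hb1, hb2, hb3⟩
    refine ⟨fun w hw => ?_, fun v hv => ?_, fun e => ?_⟩
    · rw [MulAut.mul_apply, hb1 w hw, ha1 w hw]
    · have hbv : b v ∈ W₂ := by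
        have := W₂.mul_mem (h12 (hb2 v hv)) hv
        rwa [inv_mul_cancel_right] at this
      have h1 : (a * b) v * v⁻¹ = (a (b v) * (b v)⁻¹) * (b v * v⁻¹) := by
        rw [MulAut.mul_apply]; group
      rw [h1]
      exact W₁.mul_mem (ha2 _ hbv) (hb2 v hv)
    · have h1 : (a * b) e * e⁻¹ = (a (b e) * (b e)⁻¹) * (b e * e⁻¹) := by
        rw [MulAut.mul_apply]; group
      rw [h1]
      exact W₂.mul_mem (ha3 _) (hb3 _)
  inv_mem' := by
    rintro a ⟨ha1, ha2, ha3⟩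
    refine ⟨fun w hw => ?_, fun v hv => ?_, fun e => ?_⟩
    · have := ha1 w hw
      calc a⁻¹ w = a⁻¹ (a w) := by rw [this]
        _ = w := MulAut.inv_apply_self _ _ _
    · have hu3 := ha3 (a⁻¹ v)
      rw [MulAut.apply_inv_self] at hu3
      have huW : a⁻¹ v ∈ W₂ := by
        have := W₂.mul_mem (W₂.inv_mem hu3) hv
        simpa using this
      have hu2 := ha2 _ huW
      rw [MulAut.apply_inv_self] at hu2
      have := W₁.inv_mem hu2
      simpa using this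
    · have hu3 := ha3 (a⁻¹ e)
      rw [MulAut.apply_inv_self] at hu3
      have := W₂.inv_mem hu3
      simpa using this

theorem r2stab2_pow_apply {X : Type*} [Group X] {W₁ W₂ : Subgroup X} {h12 : W₁ ≤ W₂}
    {h : MulAut X} (hh : h ∈ r2stab2_C W₁ W₂ h12) (n : ℕ) (v : X) (hv : v ∈ W₂) :
    (h ^ n) v = (h v * v⁻¹) ^ n * v := by
  induction n with
  | zero => simp
  | succ n ih =>
    have hc : h (h v * v⁻¹) = h v * v⁻¹ := hh.1 _ (hh.2.1 v hv)
    calc (h ^ (n + 1)) v = h ((h ^ n) v) := by rw [pow_succ', MulAut.mul_apply]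
      _ = h ((h v * v⁻¹) ^ n * v) := by rw [ih]
      _ = (h v * v⁻¹) ^ n * h v := by rw [map_mul, map_pow, hc]
      _ = (h v * v⁻¹) ^ (n + 1) * v := by rw [pow_succ, mul_assoc, inv_mul_cancel_right]

theorem r2stab2_isPGroup {X : Type*} [Group X] [Finite X] {p : ℕ} [Fact p.Prime]
    (hX : IsPGroup p X) (W₁ W₂ : Subgroup X) (h12 : W₁ ≤ W₂) :
    IsPGroup p (r2stab2_C W₁ W₂ h12) := by
  obtain ⟨n, hn⟩ := hX.exists_card_eq
  intro h
  refine ⟨n + n, Subtype.ext ?_⟩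
  show ((h : MulAut X)) ^ p ^ (n + n) = 1
  have hpow : ((h : MulAut X)) ^ p ^ n ∈ stab W₂ := by
    have hmem := (r2stab2_C W₁ W₂ h12).pow_mem h.2 (p ^ n)
    refine ⟨fun w hw => ?_, hmem.2.2⟩
    rw [r2stab2_pow_apply h.2 _ w hw, ← hn, pow_card_eq_one', one_mul]
  have := pow_card_eq_one_of_mem_stab hpow
  rw [hn, ← pow_mul, ← pow_add] at this
  exact this

theorem mem_of_stab2 [Finite S] [Fact p.Prime] {F : FusionSystem S} {P : Subgroup Ω}
    (hS : IsPGroup p S) (hP : F.IsEssential p P) (W₁ W₂ : Subgroup P) (h12 : W₁ ≤ W₂)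
    (hW₁ : ∀ α ∈ F.autGroup P, ∀ w ∈ W₁, α w ∈ W₁)
    (hW₂ : ∀ α ∈ F.autGroup P, ∀ w ∈ W₂, α w ∈ W₂)
    (a : normalizerIn S P) (h1 : ∀ w ∈ W₁, kapN P a w = w)
    (h2 : ∀ v ∈ W₂, kapN P a v * v⁻¹ ∈ W₁) (h3 : ∀ e : P, kapN P a e * e⁻¹ ∈ W₂) :
    (a : Ω) ∈ P := by
  have hPS : P ≤ S := hP.1.1
  haveI : Finite P := finite_of_le_finite hPS
  have hPp : IsPGroup p P := hS.to_le hPS
  have hcen : centralizerIn S P ≤ P := hP.1.2 P (isConj_refl F hPS)
  apply mem_of_kapN_mem_inn hPS hcen a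
  refine le_inn_of_normal hP (r2stab2_C W₁ W₂ h12 ⊓ F.autGroup P) inf_le_right ?_
    ((r2stab2_isPGroup hPp W₁ W₂ h12).to_le inf_le_left) ?_
  · constructor
    rintro ⟨h, hhA⟩ hh ⟨α, hα⟩
    have hh' : h ∈ r2stab2_C W₁ W₂ h12 ⊓ F.autGroup P := Subgroup.mem_subgroupOf.mp hh
    apply Subgroup.mem_subgroupOf.mpr
    show α * h * α⁻¹ ∈ r2stab2_C W₁ W₂ h12 ⊓ F.autGroup P
    have hαi : α⁻¹ ∈ F.autGroup P := (F.autGroup P).inv_mem hα
    refine ⟨⟨fun w hw => ?_, fun v hv => ?_, fun e => ?_⟩,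
      (F.autGroup P).mul_mem ((F.autGroup P).mul_mem hα hhA) hαi⟩
    · show α (h (α⁻¹ w)) = w
      rw [hh'.1.1 _ (hW₁ _ hαi w hw), MulAut.apply_inv_self]
    · have h1 := hW₁ α hα _ (hh'.1.2.1 _ (hW₂ _ hαi v hv))
      rw [map_mul, map_inv, MulAut.apply_inv_self] at h1
      exact h1
    · have h1 := hW₂ α hα _ (hh'.1.2.2 (α⁻¹ e))
      rw [map_mul, map_inv, MulAut.apply_inv_self] at h1
      exact h1
  · exact ⟨⟨h1, h2, h3⟩, autInducedBy_le_autGroup F hPS (kapN_mem a)⟩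

end Cfsg.Agent.Helper27.R2
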