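import Mathlib
import Cfsg.Agent.Lib.R2.R2Defs
import Cfsg.Agent.Lib.R2.R2Stab2
import Cfsg.Agent.Lib.R2.R2GAbel
import Cfsg.Agent.Lib.R2.R2GConj
import Cfsg.Agent.Lib.R2.R2GOrd
import Cfsg.Agent.Lib.R2.R2GOD
import Cfsg.Agent.Lib.R2.R2GAutX

/-!
# R2 farm (S5289), piece R2-GANOTESS
A = <y,z> is not essential.  Apply mem_of_stab2 to P = A, a = x^-1 (in N_S(A) as A is normal in S: OD.norm; kapN A a e = x^-1 e x), q = p^(n-3) (q >= p as n >= 4), W1 = {b^q | b in A} (= <w>), W2 = {a in A | a^q = 1} (subgroups since A is abelian; invariant under all automorphisms).  With e = y^j z^k (A_dec): e^q = w^k (y^q = 1);  (x^-1 e x) e^-1 = y^k w^(s j) (conj_formula) has q-th power 1, so lies in W2;  if e^q = w^k = 1 then p | k (ww_pow_eq_one) and (x^-1 e x) e^-1 = w^(s j) = (z^(s j))^q in W1;  x^-1 w^k x = w^k (conj_ww).  Conclusion x^-1 in A, so x in A, contradicting GD.x_pow_mem (i = 1).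
-/

set_option autoImplicit false
set_option linter.style.haveILetI false
set_option linter.unusedSectionVars false
set_option linter.unusedVariables false

namespace Cfsg.Agent.Helper27.R2

open Cfsg Cfsg.FusionSystem Cfsg.Agent.Helper25 Cfsg.Agent.Helper26 Cfsg.Agent.Helper3.KL
open Cfsg.Agent.Helper3.TT Cfsg.Agent.Helper3.SC Cfsg.Agent.Helper3.OL

variable {Ω : Type*} [Group Ω] {S : Subgroup Ω} {x y z : Ω} {p n s : ℕ}

/-- the elements of `A` of order dividing `q = p^(n-3)` -/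
def GD.r2ganotess_W2 (D : GD p n s S x y z) : Subgroup ↥(AA y z) where
  carrier := {e | e ^ (p ^ (n - 3)) = 1}
  mul_mem' := by
    intro a b ha hb
    have ha' : a ^ (p ^ (n - 3)) = 1 := ha
    have hb' : b ^ (p ^ (n - 3)) = 1 := hb
    have hc : Commute a b := Subtype.ext (D.A_comm a a.2 b b.2)
    show (a * b) ^ (p ^ (n - 3)) = 1
    rw [hc.mul_pow, ha', hb', one_mul]
  one_mem' := one_pow _
  inv_mem' := by
    intro a ha
    have ha' : a ^ (p ^ (n - 3)) = 1 := ha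
    show (a⁻¹) ^ (p ^ (n - 3)) = 1
    rw [inv_pow, ha', inv_one]

theorem GD.r2ganotess_mem_W2 (D : GD p n s S x y z) (e : ↥(AA y z)) :
    e ∈ D.r2ganotess_W2 ↔ e ^ (p ^ (n - 3)) = 1 := Iff.rfl

/-- `w ^ q = 1` -/
theorem GD.r2ganotess_ww_pow_q (D : GD p n s S x y z) (c : ℕ) :
    ww p n z ^ (p ^ (n - 3) * c) = 1 := by
  have h : p ^ (n - 3) = p * p ^ (n - 4) := by
    rw [← pow_succ']
    congr 1
    have := D.hn
    omega
  rw [h, mul_assoc, pow_mul, D.ww_pow, one_pow]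

/-- a normal form identity for commuting `y`, `z` -/
theorem r2ganotess_nf {y z : Ω} (hyz : Commute y z) (i c b m : ℕ) :
    y ^ (i + c) * z ^ b * z ^ m = y ^ c * z ^ m * (y ^ i * z ^ b) := by
  have c1 : Commute (z ^ m) (y ^ i) := (hyz.pow_pow i m).symm
  calc y ^ (i + c) * z ^ b * z ^ m
      = y ^ c * (y ^ i * (z ^ b * z ^ m)) := by
        rw [add_comm, pow_add]; simp only [mul_assoc]
    _ = y ^ c * (y ^ i * (z ^ m * z ^ b)) := by
        rw [← pow_add, ← pow_add, add_comm]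
    _ = y ^ c * (z ^ m * y ^ i * z ^ b) := by
        rw [← mul_assoc (y ^ i), ← c1.eq]
    _ = y ^ c * z ^ m * (y ^ i * z ^ b) := by simp only [mul_assoc]

/-- the commutator of `x` with `e = y^j z^k` -/
theorem GD.r2ganotess_comm (D : GD p n s S x y z) (j k : ℕ) :
    x⁻¹ * (y ^ j * z ^ k) * x * (y ^ j * z ^ k)⁻¹ = y ^ k * ww p n z ^ (s * j) := by
  have hyz : Commute y z := D.yz
  have hw : ww p n z ^ (s * j) = z ^ (p ^ (n - 3) * (s * j)) :=
    (pow_mul z (p ^ (n - 3)) (s * j)).symm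
  rw [D.conj_formula, hw, r2ganotess_nf hyz j k k, mul_inv_cancel_right]

theorem GD.not_essential_A [Finite S] [Fact p.Prime] (D : GD p n s S x y z) (hS : IsPGroup p S)
    {F : FusionSystem S} (hF : F.IsSaturated p) : ¬ F.IsEssential p (AA y z) := by
  intro hess
  have hp : p.Prime := Fact.out
  have hod := D.od
  have hyz : Commute y z := D.yz
  -- the element `w` of `A`
  set wA : ↥(AA y z) := ⟨ww p n z, ww_mem_AA p n y z⟩ with hwA
  set zA : ↥(AA y z) := ⟨z, z_mem_AA y z⟩ with hzA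
  have hwz : wA = zA ^ (p ^ (n - 3)) := Subtype.ext rfl
  have hwAq : wA ∈ D.r2ganotess_W2 := by
    rw [D.r2ganotess_mem_W2]
    apply Subtype.ext
    have := D.r2ganotess_ww_pow_q 1
    rw [mul_one] at this
    simpa using this
  have h12 : Subgroup.zpowers wA ≤ D.r2ganotess_W2 := Subgroup.zpowers_le.mpr hwAq
  -- invariance of `W₁`
  have hW₁ : ∀ α ∈ F.autGroup (AA y z), ∀ w' ∈ Subgroup.zpowers wA,
      α w' ∈ Subgroup.zpowers wA := by
    intro α _ w' hw'
    have key : α wA ∈ Subgroup.zpowers wA := by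
      obtain ⟨i, j, hij⟩ := D.A_dec (α zA).2
      rw [hwz, map_pow, Subgroup.mem_zpowers_iff]
      refine ⟨(j : ℤ), ?_⟩
      apply Subtype.ext
      rw [zpow_natCast]
      have h1 := D.r2gautx_t_pow i j 1
      rw [mul_one, mul_one] at h1
      show ((wA ^ j : ↥(AA y z)) : Ω) = (((α zA) ^ (p ^ (n - 3)) : ↥(AA y z)) : Ω)
      rw [Subgroup.coe_pow, Subgroup.coe_pow, hij, h1]
    obtain ⟨k, rfl⟩ := Subgroup.mem_zpowers_iff.mp hw'
    rw [map_zpow]
    exact Subgroup.zpow_mem _ key k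
  have hW₂ : ∀ α ∈ F.autGroup (AA y z), ∀ v ∈ D.r2ganotess_W2, α v ∈ D.r2ganotess_W2 := by
    intro α _ v hv
    rw [D.r2ganotess_mem_W2] at hv ⊢
    rw [← map_pow, hv, map_one]
  -- the element `x⁻¹` of `N_S(A)`
  have hxinv : x⁻¹ ∈ normalizerIn S (AA y z) :=
    ⟨S.inv_mem D.x_mem, hod.norm (S.inv_mem D.x_mem)⟩
  set a : ↥(normalizerIn S (AA y z)) := ⟨x⁻¹, hxinv⟩ with ha
  have hkap : ∀ e : ↥(AA y z), ((kapN (AA y z) a e : ↥(AA y z)) : Ω) = x⁻¹ * (e : Ω) * x := by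
    intro e
    rw [kapN_apply]
    show x⁻¹ * (e : Ω) * (x⁻¹)⁻¹ = x⁻¹ * (e : Ω) * x
    rw [inv_inv]
  have h1 : ∀ w' ∈ Subgroup.zpowers wA, kapN (AA y z) a w' = w' := by
    intro w' hw'
    have key : kapN (AA y z) a wA = wA := by
      apply Subtype.ext
      rw [hkap]
      exact D.conj_ww
    obtain ⟨k, rfl⟩ := Subgroup.mem_zpowers_iff.mp hw'
    rw [map_zpow, key]
  have hval : ∀ (e : ↥(AA y z)) (j k : ℕ), (e : Ω) = y ^ j * z ^ k →
      ((kapN (AA y z) a e * e⁻¹ : ↥(AA y z)) : Ω) = y ^ k * ww p n z ^ (s * j) := by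
    intro e j k hjk
    rw [Subgroup.coe_mul, Subgroup.coe_inv, hkap, hjk]
    exact D.r2ganotess_comm j k
  have h3 : ∀ e : ↥(AA y z), kapN (AA y z) a e * e⁻¹ ∈ D.r2ganotess_W2 := by
    intro e
    obtain ⟨j, k, hjk⟩ := D.A_dec e.2
    rw [D.r2ganotess_mem_W2]
    apply Subtype.ext
    rw [Subgroup.coe_pow, hval e j k hjk]
    have hc : Commute (y ^ k) (ww p n z ^ (s * j)) := by
      unfold ww
      exact (hyz.pow_pow k _).pow_right _
    rw [hc.mul_pow, ← pow_mul, ← pow_mul, mul_comm k, D.r2gautx_y_pow, mul_comm (s * j),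
      D.r2ganotess_ww_pow_q, one_mul]
    rfl
  have h2 : ∀ v ∈ D.r2ganotess_W2, kapN (AA y z) a v * v⁻¹ ∈ Subgroup.zpowers wA := by
    intro v hv
    obtain ⟨j, k, hjk⟩ := D.A_dec v.2
    rw [D.r2ganotess_mem_W2] at hv
    have hv' : (v : Ω) ^ (p ^ (n - 3)) = 1 := by
      have := congrArg Subtype.val hv
      simpa using this
    have h4 := D.r2gautx_t_pow j k 1
    rw [mul_one, mul_one] at h4
    rw [hjk, h4] at hv'
    obtain ⟨c, rfl⟩ := D.ww_pow_eq_one hv'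
    rw [Subgroup.mem_zpowers_iff]
    refine ⟨((s * j : ℕ) : ℤ), ?_⟩
    apply Subtype.ext
    rw [zpow_natCast, hval v j (p * c) hjk, pow_mul y p c, D.yp, one_pow, one_mul]
    rfl
  have hmem : (a : Ω) ∈ AA y z :=
    mem_of_stab2 hS hess (Subgroup.zpowers wA) D.r2ganotess_W2 h12 hW₁ hW₂ a h1 h2 h3
  have hxA : x ∈ AA y z := by
    have : x⁻¹ ∈ AA y z := hmem
    simpa using Subgroup.inv_mem _ this
  have hx1 : x ^ 1 ∈ AA y z := by rw [pow_one]; exact hxA
  have := D.x_pow_mem hx1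
  have h5 := hp.one_lt
  have := Nat.le_of_dvd one_pos this
  omega

end Cfsg.Agent.Helper27.R2
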