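import Mathlib
import Cfsg.Agent.Lib.R2.R2Defs
import Cfsg.Agent.Lib.R2.R2BrMain
import Cfsg.Agent.Lib.R2.R2GOD
import Cfsg.Agent.Lib.R2.R2GLcs
import Cfsg.Agent.Lib.R2.R2GAutRed
import Cfsg.Agent.Lib.R2.R2GANotEss
import Cfsg.Agent.Lib.R2.R2ExNonab
import Cfsg.Agent.Lib.R2.R2ExAlp

/-!
# R2 farm (S5289), piece R2-EXAB
G(p,n;s) has no essential subgroup.  Let P be essential; P is abelian (GD.essential_abelian), P != A (GD.not_essential_A), D' = D.od.  OL.essential_cases gives x' in P outside A, h12 : |K2:K1| = p, |N_S(P):P| = p, A ⊓ P = K D' hx' 1.  N := N_S(P): A ⊓ N = K D' hx' 2 (inf_normalizerIn).  N is nonabelian (an element a of K2 outside K1 = Z(S) (K_one) does not commute with x', by OD.cent) and large: |S| = p |A|, |N| = p |K2| (OD.card_eq), |A| = |K3| <= p |K2| (K3 = A as in R2-EXNONAB via GD.lcs3; step_le / relIndex_Kf_le in Lib/Helper3/OliverKf.lean, relIndex_K).  exists_torus_aut gives delta; extend to deltabar in Aut_F(N) (exists_autGroup_normalizerIn_extension),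 then by exists_aut_of_large to gamma in Aut_F(S) with gamma x' = delta x' congruent to x'^2 mod A: contradiction with GD.no_square_aut (N = S).
-/

set_option autoImplicit false
set_option linter.style.haveILetI false
set_option linter.unusedSectionVars false
set_option linter.unusedVariables false

namespace Cfsg.Agent.Helper27.R2

open Cfsg Cfsg.FusionSystem Cfsg.Agent.Helper25 Cfsg.Agent.Helper26 Cfsg.Agent.Helper3.KL
open Cfsg.Agent.Helper3.TT Cfsg.Agent.Helper3.SC Cfsg.Agent.Helper3.OL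

variable {Ω : Type*} [Group Ω] {S : Subgroup Ω} {x y z : Ω} {p n s : ℕ}


theorem GD.no_essential [Finite S] [Fact p.Prime] (D : GD p n s S x y z) (hS : IsPGroup p S)
    {F : FusionSystem S} (hF : F.IsSaturated p) (P : Subgroup Ω) : ¬ F.IsEssential p P := by
  intro hP
  have hp : p.Prime := Fact.out
  have D' : OD p S (AA y z) := D.od
  have hab := D.essential_abelian hS hF hP
  have hPS : P ≤ S := hP.1.1
  have hPA : P ≠ AA y z := by
    rintro rfl
    exact D.not_essential_A hS hF hP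
  obtain ⟨x', hx', hx'A, hx'P, h12, hN, hcase⟩ := essential_cases hF D' hP hPA
  rcases hcase with ⟨-, hi, -⟩ | ⟨-, -, hnab⟩
  swap
  · exact hnab hab
  have hNi : AA y z ⊓ normalizerIn S P = K D' hx' 2 := inf_normalizerIn D' hx' hx'A hPS hx'P hi
  have hNS : normalizerIn S P ≤ S := normalizerIn_le
  have hx'N : x' ∈ normalizerIn S P := le_normalizerIn hPS hx'P
  have hNA : ¬ normalizerIn S P ≤ AA y z := fun h => hx'A (h hx'N)
  -- `N_S(P)` is nonabelian
  have hNnab : ¬ ∀ u v : normalizerIn S P, u * v = v * u := by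
    intro hc
    have hne : K D' hx' 2 ≠ K D' hx' 1 := by
      intro h
      rw [h, Subgroup.relIndex_self] at h12
      exact hp.one_lt.ne h12
    have hlt : ¬ K D' hx' 2 ≤ K D' hx' 1 := fun h => hne (le_antisymm h (K_mono D' hx' 1))
    obtain ⟨a, ha2, ha1⟩ := SetLike.not_le_iff_exists.mp hlt
    have haAN : a ∈ AA y z ⊓ normalizerIn S P := by rw [hNi]; exact ha2
    have hcomm : x' * a = a * x' := congrArg Subtype.val (hc ⟨x', hx'N⟩ ⟨a, haAN.2⟩)
    have h1 := D'.cent hx' hx'A haAN.1 hcomm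
    rw [← K_one D' hx' hx'A] at h1
    exact ha1 h1
  -- `N_S(P)` is large
  have hcard : Nat.card S ≤ p * Nat.card (normalizerIn S P) := by
    haveI : Finite (AA y z) := finite_of_le_finite D'.le
    have hS1 : Nat.card (AA y z) * p = Nat.card S := by
      have h1 := Subgroup.relIndex_mul_relIndex ⊥ (AA y z) S bot_le D'.le
      rw [Subgroup.relIndex_bot_left, Subgroup.relIndex_bot_left, D'.idx] at h1
      exact h1
    have hN1 : Nat.card (normalizerIn S P) = p * Nat.card (K D' hx' 2) := by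
      rw [D'.card_eq hNS hNA, hNi]
    have h12' : (Kf (phi D' hx') 1).relIndex (Kf (phi D' hx') 2) = p := by
      rw [← relIndex_K]; exact h12
    have h23 : (K D' hx' 2).relIndex (K D' hx' 3) ≤ p := by
      rw [relIndex_K]
      exact step_le h12' 1
    have hK3 : K D' hx' 3 = AA y z := exnonab_K3 D' D.lcs3 hx'
    have hA1 : Nat.card (K D' hx' 2) * (K D' hx' 2).relIndex (K D' hx' 3) = Nat.card (AA y z) := by
      have h1 := Subgroup.relIndex_mul_relIndex ⊥ (K D' hx' 2) (K D' hx' 3) bot_le (K_mono D' hx' 2)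
      rw [Subgroup.relIndex_bot_left, Subgroup.relIndex_bot_left] at h1
      rw [h1, hK3]
    rw [← hS1, hN1, ← hA1]
    calc Nat.card (K D' hx' 2) * (K D' hx' 2).relIndex (K D' hx' 3) * p
        ≤ Nat.card (K D' hx' 2) * p * p :=
          Nat.mul_le_mul_right p (Nat.mul_le_mul_left _ h23)
      _ = p * (p * Nat.card (K D' hx' 2)) := by ring
  have hPA' : ¬ P ≤ AA y z := fun h => hx'A (h hx'P)
  obtain ⟨δ, hδ, hnorm, hact⟩ := exists_torus_aut D.hp5 hS hF D' hP hPA' hN
  obtain ⟨-, -, hrec⟩ := of_fullyNormalized p hS F hF hP.2.1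
  obtain ⟨σ, hσF, hσ⟩ := exists_autGroup_normalizerIn_extension F hrec hδ hnorm
  have hφ : (normalizerIn S P).subtype.comp σ.toMonoidHom ∈ F.Hom (normalizerIn S P) :=
    (mem_autGroup_iff F hNS σ).mp hσF
  obtain ⟨γ, -, hγ⟩ := exists_aut_of_large hS hF
    (fun R hR => D.essential_abelian hS hF hR) hφ hNS hNnab hcard
  refine D.no_square_aut S rfl γ hx' hx'A ?_
  have h1 := hγ ⟨x', hx'N⟩
  have h2 := hσ ⟨x', hx'P⟩
  have h3 := hact ⟨x', hx'P⟩
  have h4 : ((γ ⟨x', hx'⟩ : S) : Ω) = ((δ ⟨x', hx'P⟩ : P) : Ω) := by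
    rw [← h2]
    exact h1.symm
  rw [h4]
  exact h3

end Cfsg.Agent.Helper27.R2
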