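import Mathlib
import Cfsg.Agent.Lib.R2.R2Defs
import Cfsg.Agent.Lib.R2.R2Basic
import Cfsg.Agent.Lib.R2.R2ExAb

/-!
# R2 farm (S5289), piece R2-GMAIN (helper27, proved)
G(p,n;s): S is normal in F.
-/

set_option autoImplicit false
set_option linter.style.haveILetI false
set_option linter.unusedSectionVars false
set_option linter.unusedVariables false

namespace Cfsg.Agent.Helper27.R2

open Cfsg Cfsg.FusionSystem Cfsg.Agent.Helper25 Cfsg.Agent.Helper26 Cfsg.Agent.Helper3.KL
open Cfsg.Agent.Helper3.TT Cfsg.Agent.Helper3.SC Cfsg.Agent.Helper3.OL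

variable {Ω : Type*} [Group Ω] {S : Subgroup Ω} {x y z : Ω} {p n s : ℕ}


theorem GD.isNormal [Finite S] [Fact p.Prime] (D : GD p n s S x y z) (hS : IsPGroup p S)
    {F : FusionSystem S} (hF : F.IsSaturated p) : F.IsNormal S :=
  isNormal_of_no_essential hS F hF (D.no_essential hS hF)

end Cfsg.Agent.Helper27.R2
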